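import Cfsg.Agent.Lib.GlaubermanTransfer.FixedPoints
import Cfsg.Agent.Lib.ConjFun.Parts
import Cfsg.Agent.Lib.BaumannBlock.Basic

/-!
# Baumann's lemma for blocks

* `card_mul_le`: the offender inequality
* `commutator_mem_zQ`: `[Ω₁(Z(J(Q))), J(G)] ≤ V`
* `baumann_eq_inf`: `B(S) = S ∩ N` with `N = K ∩ C_G(Y₀)` normal containing `J(G)`
-/

set_option autoImplicit false

namespace Cfsg.Agent.GlaubermanTransfer

open Subgroup
open scoped commutatorElement MatrixGroups

universe u

variable {G : Type u} [Group G] [Finite G] {p : ℕ} [Fact p.Prime] {S : Sylow p G} {M : Subgroup G}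
  {K : Subgroup G} {r : ℕ} {F : Fin r → Type} [∀ i, Field (F i)] [∀ i, Fintype (F i)]
  (h : Ctx p S M) (d : Data p S K F) (hp : p ≠ 2)

local notation "V" => zQ p G
local notation "C" => centralizer (zQ p G : Set G)
local notation "JS" => thompsonSubgroupOf p (S : Subgroup G)
local notation "JG" => thompsonSubgroup p G
local notation "Q" => pCore p G
local notation "X" => omegaOne p (centerThompsonOf p (S : Subgroup G))
local notation "Y" => omegaOne p (centerThompsonOf p (pCore p G))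

include h d

/-- A member of largest order inside `S` is no more than an offender. -/
theorem card_mul_le {A : Subgroup G} (hA : A ∈ maxElementaryAbelianSubgroups p G)
    (hAS : A ≤ (S : Subgroup G)) :
    Nat.card ↥A * Nat.card ↥(V ⊓ centralizer (A : Set G)) ≤ Nat.card ↥(zQ p G) * Nat.card ↥(A ⊓ Q) := by
  classical
  have hAK : A ≤ K := (Offender.le_thompsonSubgroup hA).trans d.thompson_le
  -- the parameters of the unipotent images
  let par : ∀ i, ↥A → F i := fun i a =>
    ((d.ρ i ⟨a, hAK a.2⟩ : SL(2, F i)) : Matrix (Fin 2) (Fin 2) (F i)) 0 1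
  have hpar : ∀ i (a : ↥A), d.ρ i ⟨a, hAK a.2⟩ = NaturalSL2.uni (par i a) := fun i a =>
    Subtype.ext (NaturalSL2.apply_of_mem_upperUni (d.rho_S i _ (hAS a.2)))
  let α : ↥A →* Multiplicative (∀ i, F i) :=
    { toFun := fun a => Multiplicative.ofAdd fun i => par i a
      map_one' := by
        apply Multiplicative.toAdd.injective
        funext i
        show ((d.ρ i 1 : SL(2, F i)) : Matrix (Fin 2) (Fin 2) (F i)) 0 1 = 0
        rw [map_one]; simp
      map_mul' := fun a b => by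
        apply Multiplicative.toAdd.injective
        funext i
        show ((d.ρ i (⟨a, hAK a.2⟩ * ⟨b, hAK b.2⟩) : SL(2, F i)) : Matrix (Fin 2) (Fin 2) (F i)) 0 1 =
          par i a + par i b
        rw [map_mul, hpar, hpar, Matrix.SpecialLinearGroup.coe_mul]
        simp [NaturalSL2.uni, Matrix.SpecialLinearGroup.coe_mul, Matrix.mul_apply, Fin.sum_univ_two,
          add_comm] }
  let sel : Fin r → Prop := fun i => ∃ a : ↥A, par i a ≠ 0
  let θ : ↥V →* Multiplicative (∀ i, F i) :=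
    { toFun := fun v => Multiplicative.ofAdd fun i =>
        if sel i then Multiplicative.toAdd (d.χ i v) 1 else 0
      map_one' := by
        apply Multiplicative.toAdd.injective
        funext i
        simp
      map_mul' := fun v w => by
        apply Multiplicative.toAdd.injective
        funext i
        by_cases hi : sel i <;> simp [hi] }
  -- the image of `α` lies in the image of `θ`
  have hrange : α.range ≤ θ.range := by
    rintro _ ⟨a, rfl⟩
    obtain ⟨v, hv⟩ := d.chi_surj fun i => ![0, par i a]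
    refine ⟨v, Multiplicative.toAdd.injective (funext fun i => ?_)⟩
    show (if sel i then Multiplicative.toAdd (d.χ i v) 1 else 0) = par i a
    by_cases hi : sel i
    · simp [hi, hv i]
    · rw [if_neg hi]
      simp only [sel, not_exists, not_not] at hi
      exact (hi a).symm
  have hker : α.ker.map A.subtype ≤ A ⊓ Q := by
    rintro _ ⟨a, ha, rfl⟩
    refine mem_inf.mpr ⟨a.2, h.inf_centralizer.le (mem_inf.mpr ⟨hAS a.2, ?_⟩)⟩
    refine d.rho_ker ⟨a, hAK a.2⟩ fun i => ?_
    have h1 : par i a = 0 := congrFun (congrArg Multiplicative.toAdd (MonoidHom.mem_ker.mp ha)) i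
    rw [hpar, h1]
    exact Subtype.ext (by simp [NaturalSL2.uni, Matrix.one_fin_two])
  have hker' : (V ⊓ centralizer (A : Set G)).subgroupOf V ≤ θ.ker := by
    intro v hv
    rw [MonoidHom.mem_ker]
    apply Multiplicative.toAdd.injective
    funext i
    show (if sel i then Multiplicative.toAdd (d.χ i v) 1 else 0) = 0
    by_cases hi : sel i
    · rw [if_pos hi]
      obtain ⟨a, ha⟩ := hi
      have h1 := d.equiv i ⟨a, hAK a.2⟩ v
      rw [cV_eq_self_iff.mpr (hv.2 a a.2), hpar, mulVec_uni d] at h1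
      simpa [ha] using congrFun h1 0
    · rw [if_neg hi]
  have e1 := (α.ker).card_eq_card_quotient_mul_card_subgroup
  have e2 := (θ.ker).card_eq_card_quotient_mul_card_subgroup
  rw [Nat.card_congr (QuotientGroup.quotientKerEquivRange α).toEquiv] at e1
  rw [Nat.card_congr (QuotientGroup.quotientKerEquivRange θ).toEquiv] at e2
  have i1 : Nat.card ↥α.ker ≤ Nat.card ↥(A ⊓ Q) := by
    rw [← card_map_of_injective (K := α.ker) A.subtype_injective]
    exact Subgroup.card_le_of_le hker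
  have i2 : Nat.card ↥(V ⊓ centralizer (A : Set G)) ≤ Nat.card ↥θ.ker := by
    rw [← Coprime.card_subgroupOf (inf_le_left : V ⊓ centralizer (A : Set G) ≤ _)]
    exact Subgroup.card_le_of_le hker'
  calc Nat.card ↥A * Nat.card ↥(V ⊓ centralizer (A : Set G))
      ≤ (Nat.card ↥α.range * Nat.card ↥(A ⊓ Q)) * Nat.card ↥θ.ker :=
        Nat.mul_le_mul (e1.le.trans (Nat.mul_le_mul_left _ i1)) i2
    _ ≤ (Nat.card ↥θ.range * Nat.card ↥(A ⊓ Q)) * Nat.card ↥θ.ker :=
        Nat.mul_le_mul_right _ (Nat.mul_le_mul_right _ (Subgroup.card_le_of_le hrange))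
    _ = Nat.card ↥(zQ p G) * Nat.card ↥(A ⊓ Q) := by rw [e2]; ring

/-- `(A ∩ Q) V` is again of largest order. -/
theorem sup_mem_max {A : Subgroup G} (hA : A ∈ maxElementaryAbelianSubgroups p G)
    (hAS : A ≤ (S : Subgroup G)) : (A ⊓ Q) ⊔ V ∈ maxElementaryAbelianSubgroups p G := by
  have hV := isElementaryAbelian_zQ (p := p) (G := G)
  have hD : IsElementaryAbelian p ((A ⊓ Q) ⊔ V) :=
    PGroup.isElementaryAbelian_sup (PGroup.isElementaryAbelian_mono hA.1 inf_le_left) hV
      fun a ha v hv => (pCore_le_centralizer_zQ ha.2 v hv).symm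
  refine ⟨hD, fun B hB => (hA.2 B hB).trans ?_⟩
  have e := Offender.card_sup_mul_card_inf (H := A ⊓ Q) (N := zQ p G)
    (le_top.trans (normalizer_eq_top (H := zQ p G)).ge)
  have e3 : (A ⊓ Q) ⊓ V = V ⊓ centralizer (A : Set G) := by
    rw [Offender.inf_centralizer_eq_inf_of_max hV hA, inf_assoc, inf_comm Q (zQ p G),
      inf_eq_left.mpr zQ_le_pCore, inf_comm]
  rw [e3] at e
  have := card_mul_le h d hA hAS
  refine Nat.le_of_mul_le_mul_right ?_ (Nat.card_pos (α := ↥(V ⊓ centralizer (A : Set G))))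
  rw [e, mul_comm (Nat.card ↥(A ⊓ Q))]
  exact this

theorem sup_le_sylow {A : Subgroup G} (hAS : A ≤ (S : Subgroup G)) :
    (A ⊓ Q) ⊔ V ≤ (S : Subgroup G) ∧ (A ⊓ Q) ⊔ V ≤ Q :=
  ⟨sup_le (inf_le_left.trans hAS) (zQ_le_pCore.trans (PCore.pCore_le_sylow S)),
    sup_le inf_le_right zQ_le_pCore⟩

theorem exists_max_pCore : ∃ A ∈ maxElementaryAbelianSubgroups p G, A ≤ Q := by
  obtain ⟨A, hA, hAS⟩ := Offender.exists_max_le_sylow S
  exact ⟨_, sup_mem_max h d hA hAS, (sup_le_sylow h d hAS).2⟩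

/-- `J(Q) ≤ J(S)`. -/
theorem thompson_pCore_le : thompsonSubgroupOf p (pCore p G) ≤ JS := by
  obtain ⟨A, hA, hAQ⟩ := exists_max_pCore h d
  rw [Offender.thompsonSubgroupOf_eq hA hAQ]
  exact sSup_le fun B hB => Offender.le_thompsonSubgroupOf hB.1 (hB.2.trans (PCore.pCore_le_sylow S))

theorem zQ_le_Y : V ≤ Y := by
  obtain ⟨A, hA, hAS⟩ := Offender.exists_max_le_sylow S
  refine fun v hv => PGroup.mem_omegaOne_of_pow_eq_one (mem_inf.mpr ⟨?_, ?_⟩)
    ((isElementaryAbelian_zQ).2 v hv)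
  · exact Offender.le_thompsonSubgroupOf (sup_mem_max h d hA hAS) (sup_le_sylow h d hAS).2
      (mem_sup_right hv)
  · intro j hj
    exact (pCore_le_centralizer_zQ (PGroup.thompsonSubgroupOf_le _ hj) v hv).symm

omit h d in
theorem isElementaryAbelian_Y : IsElementaryAbelian p (omegaOne p (centerThompsonOf p (pCore p G))) :=
  PGroup.isElementaryAbelian_omegaOne
    (PGroup.isMulCommutative_of_forall fun _ ha _ hb => (ha.2 _ hb.1).symm)

omit h d in
instance Y_normal : (omegaOne p (centerThompsonOf p (pCore p G))).Normal := by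
  refine normalizer_eq_top_iff.mp (top_le_iff.mp ?_)
  refine (normalizer_eq_top_iff.mpr (PCore.pCore_normal (p := p) (G := G))).ge.trans ?_
  exact (PGroup.normalizer_le_normalizer_thompsonOf _).trans
    ((LocalStructure.le_normalizer_inf le_rfl (LocalStructure.le_normalizer_centralizer le_rfl)).trans
      (Offender.normalizer_le_normalizer_omegaOne p _))

/-- `[Y, A] ≤ V`. -/
theorem commutator_mem_zQ_of_max {A : Subgroup G} (hA : A ∈ maxElementaryAbelianSubgroups p G)
    (hAS : A ≤ (S : Subgroup G)) {y a : G} (hy : y ∈ Y) (ha : a ∈ A) : ⁅y, a⁆ ∈ V := by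
  have hV := isElementaryAbelian_zQ (p := p) (G := G)
  have hB := sup_mem_max h d hA hAS
  have hBJ := Offender.le_thompsonSubgroupOf hB (sup_le_sylow h d hAS).2
  have hcomm : ∀ b ∈ A ⊓ Q, ∀ x ∈ Y, b * x = x * b := fun b hb x hx =>
    (PGroup.omegaOne_le _ hx).2 b (hBJ (mem_sup_left hb))
  have hD : IsElementaryAbelian p ((A ⊓ Q) ⊔ Y) :=
    PGroup.isElementaryAbelian_sup (PGroup.isElementaryAbelian_mono hA.1 inf_le_left)
      isElementaryAbelian_Y hcomm
  have hYQ : Y ≤ Q := (PGroup.omegaOne_le _).trans (inf_le_left.trans (PGroup.thompsonSubgroupOf_le _))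
  have e := Offender.card_sup_mul_card_inf (H := A ⊓ Q) (N := Y)
    (le_top.trans (normalizer_eq_top (H := Y)).ge)
  have e3 : (A ⊓ Q) ⊓ Y = Y ⊓ centralizer (A : Set G) := by
    rw [Offender.inf_centralizer_eq_inf_of_max isElementaryAbelian_Y hA, inf_assoc, inf_comm Q Y,
      inf_eq_left.mpr hYQ, inf_comm]
  rw [e3] at e
  set cY := Y ⊓ centralizer (A : Set G) with hcY
  -- `|Y| |A ∩ Q| ≤ |A| |C_Y(A)|`
  have i1 : Nat.card ↥(A ⊓ Q) * Nat.card ↥Y ≤ Nat.card ↥A * Nat.card ↥cY :=
    e ▸ Nat.mul_le_mul_right _ (hA.2 _ hD)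
  have i2 := card_mul_le h d hA hAS
  have e4 := Offender.card_sup_mul_card_inf (H := cY) (N := zQ p G)
    (le_top.trans (normalizer_eq_top (H := zQ p G)).ge)
  have e5 : cY ⊓ V = V ⊓ centralizer (A : Set G) := by
    rw [hcY, inf_assoc, inf_comm (centralizer (A : Set G)), ← inf_assoc,
      inf_eq_right.mpr (zQ_le_Y h d)]
  rw [e5] at e4
  have hle : Nat.card ↥Y ≤ Nat.card ↥(cY ⊔ V) := by
    refine Nat.le_of_mul_le_mul_right (c := Nat.card ↥(A ⊓ Q) * Nat.card ↥A) ?_
      (Nat.mul_pos (Nat.card_pos (α := ↥(A ⊓ Q))) (Nat.card_pos (α := ↥A)))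
    refine Nat.le_of_mul_le_mul_right (c := Nat.card ↥(V ⊓ centralizer (A : Set G))) ?_ (Nat.card_pos (α := ↥(V ⊓ centralizer (A : Set G))))
    calc Nat.card ↥Y * (Nat.card ↥(A ⊓ Q) * Nat.card ↥A) * Nat.card ↥(V ⊓ centralizer (A : Set G))
        = (Nat.card ↥(A ⊓ Q) * Nat.card ↥Y) *
            (Nat.card ↥A * Nat.card ↥(V ⊓ centralizer (A : Set G))) := by ring
      _ ≤ (Nat.card ↥A * Nat.card ↥cY) * (Nat.card ↥(zQ p G) * Nat.card ↥(A ⊓ Q)) := Nat.mul_le_mul i1 i2
      _ = (Nat.card ↥cY * Nat.card ↥(zQ p G)) * (Nat.card ↥(A ⊓ Q) * Nat.card ↥A) := by ring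
      _ = _ := by rw [← e4]; ring
  have heq : cY ⊔ V = Y := Subgroup.eq_of_le_of_card_ge (sup_le inf_le_left (zQ_le_Y h d)) hle
  obtain ⟨c, hc, v, hv, rfl⟩ := Subgroup.mem_sup_of_normal_right.mp (heq.ge hy)
  have h1 : ⁅c * v, a⁆ = c * ⁅v, a⁆ * c⁻¹ * ⁅c, a⁆ := by
    simp only [commutatorElement_def]; group
  rw [h1, commutatorElement_eq_one_iff_mul_comm.mpr (hc.2 a ha).symm, mul_one]
  exact zQ_normal.conj_mem _ (Subgroup.commutator_le_left V ⊤ (commutator_mem_commutator hv (mem_top a))) c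

omit d in
theorem exists_conj_le_sylow {A : Subgroup G} (hA : A ∈ maxElementaryAbelianSubgroups p G) :
    ∃ g : G, A.map (MulAut.conj g).toMonoidHom ≤ (S : Subgroup G) ∧
      A.map (MulAut.conj g).toMonoidHom ∈ maxElementaryAbelianSubgroups p G := by
  obtain ⟨T, hT⟩ := (PGroup.isPGroup_of_elementaryAbelian hA.1).exists_le_sylow
  obtain ⟨g, rfl⟩ := MulAction.exists_smul_eq G T S
  exact ⟨g, (Subgroup.map_mono hT).trans le_rfl, Offender.conj_mem_max g hA⟩

/-- `[Ω₁(Z(J(Q))), J(G)] ≤ V`. -/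
theorem commutator_mem_zQ {y g : G} (hy : y ∈ Y) (hg : g ∈ JG) : ⁅y, g⁆ ∈ V := by
  suffices hle : JG ≤ ConjFun.kerOn Y V zQ_normal from hle hg y hy
  rw [Offender.thompsonSubgroup_le_iff]
  intro A hA a ha x hx
  obtain ⟨c, hcS, hcA⟩ := exists_conj_le_sylow h hA
  have h1 := commutator_mem_zQ_of_max h d hcA hcS (Y_normal.conj_mem x hx c)
    ⟨a, ha, rfl⟩
  have h2 := zQ_normal.conj_mem _ h1 c⁻¹
  rwa [show c⁻¹ * ⁅c * x * c⁻¹, (MulAut.conj c).toMonoidHom a⁆ * c⁻¹⁻¹ = ⁅x, a⁆ by
    simp only [commutatorElement_def, MulEquiv.coe_toMonoidHom, MulAut.conj_apply]; group] at h2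

theorem mem_X_of_fixed {x : G} (hxp : x ^ p = 1) (hx : ∀ a ∈ JS, a * x = x * a) : x ∈ X := by
  obtain ⟨A, hA, hAS⟩ := Offender.exists_max_le_sylow S
  exact PGroup.mem_omegaOne_of_pow_eq_one (mem_inf.mpr ⟨Offender.le_thompsonSubgroupOf hA hAS
    (Offender.mem_of_commute_max hA hxp fun a ha => hx a (Offender.le_thompsonSubgroupOf hA hAS ha)), hx⟩) hxp

theorem X_le_Y : X ≤ Y := by
  rw [PGroup.omegaOne_le_iff]
  intro x hx hxp
  obtain ⟨A, hA, hAS⟩ := Offender.exists_max_le_sylow S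
  have hB := sup_mem_max h d hA hAS
  obtain ⟨hBS, hBQ⟩ := sup_le_sylow h d hAS
  refine PGroup.mem_omegaOne_of_pow_eq_one (mem_inf.mpr ⟨?_, ?_⟩) hxp
  · exact Offender.le_thompsonSubgroupOf hB hBQ (Offender.mem_of_commute_max hB hxp fun b hb =>
      hx.2 b (Offender.le_thompsonSubgroupOf hB hBS hb))
  · exact fun j hj => hx.2 j (thompson_pCore_le h d hj)

theorem thompson_sup_sylow : JG ⊔ (S : Subgroup G) = ⊤ := by
  by_contra hc
  exact h.ne_top (top_le_iff.mp (d.sup_top.ge.trans (sup_le (h.uniq _ le_sup_right hc) h.centralizer_le)))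

omit d in
theorem sylow_le_normalizer_X :
    (S : Subgroup G) ≤ normalizer ((omegaOne p (centerThompsonOf p (S : Subgroup G)) : Subgroup G) : Set G) :=
  le_normalizer.trans ((PGroup.normalizer_le_normalizer_thompsonOf _).trans
    ((LocalStructure.le_normalizer_inf le_rfl (LocalStructure.le_normalizer_centralizer le_rfl)).trans
      (Offender.normalizer_le_normalizer_omegaOne p _)))

theorem VX_normal : (V ⊔ X).Normal := by
  have hle : V ⊔ X ≤ Y := sup_le (zQ_le_Y h d) (X_le_Y h d)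
  refine normalizer_eq_top_iff.mp (top_le_iff.mp ?_)
  rw [← thompson_sup_sylow h d]
  refine sup_le (fun g hg => ?_) (LocalStructure.le_normalizer_sup (le_top.trans (normalizer_eq_top (H := zQ p G)).ge)
    (sylow_le_normalizer_X h))
  refine PGroup.mem_normalizer_of_map_conj_eq (Subgroup.eq_of_le_of_card_ge ?_
    (card_map_of_injective (MulAut.conj g).injective).ge)
  rintro _ ⟨x, hx, rfl⟩
  show g * x * g⁻¹ ∈ V ⊔ X
  rw [show g * x * g⁻¹ = ⁅x, g⁆⁻¹ * x by simp only [commutatorElement_def]; group]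
  exact mul_mem (mem_sup_left (inv_mem (commutator_mem_zQ h d (hle hx) hg))) hx

/-- The points of `V X` fixed by `J(G)`. -/
abbrev Y₀ (p : ℕ) (S : Sylow p G) : Subgroup G :=
  (zQ p G ⊔ omegaOne p (centerThompsonOf p (S : Subgroup G))) ⊓
    centralizer (thompsonSubgroup p G : Set G)

theorem Y₀_normal : (Y₀ p S).Normal := by
  haveI := VX_normal h d
  haveI := Offender.thompsonSubgroup_normal (G := G) (p := p)
  infer_instance

theorem mem_centralizer_K {x : G} (hxV : x ∈ V) (hx : ∀ g ∈ JG, g * x = x * g) :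
    x ∈ centralizer (K : Set G) := by
  intro k hk
  have hle : K ≤ centralizer ({x} : Set G) := by
    rw [← d.eK]
    refine sup_le (fun g hg => ?_) (fun g hg => ?_) <;> rw [Subgroup.mem_centralizer_singleton_iff]
    · exact hx g hg
    · exact (hg x hxV).symm
  exact Subgroup.mem_centralizer_singleton_iff.mp (hle hk)

/-- `[V X, C ∩ J(G)] ≤ C_V(K)`. -/
theorem commutator_mem_fixed {y c : G} (hy : y ∈ V ⊔ X) (hcJ : c ∈ JG) (hc : c ∈ C) :
    ⁅y, c⁆ ∈ V ⊓ centralizer (K : Set G) := by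
  haveI := VX_normal h d
  haveI := d.K_normal
  haveI := Offender.thompsonSubgroup_normal (G := G) (p := p)
  have hle : V ⊔ X ≤ Y := sup_le (zQ_le_Y h d) (X_le_Y h d)
  -- the part inside `Q`
  set D₀ := ⁅V ⊔ X, Q ⊓ JG⁆ with hD₀
  haveI : (pCore p G).Normal := PCore.pCore_normal
  haveI : D₀.Normal := inferInstance
  have hD₀X : D₀ ≤ V ⊓ X := by
    rw [hD₀, commutator_le]
    intro z hz q hq
    obtain ⟨v, hv, x, hx, rfl⟩ := Subgroup.mem_sup_of_normal_left.mp hz
    have h1 : ⁅x, q⁆ ∈ V ⊓ X := mem_inf.mpr ⟨commutator_mem_zQ h d (X_le_Y h d hx) hq.2, by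
      have h2 := (mem_normalizer_iff.mp (sylow_le_normalizer_X h (PCore.pCore_le_sylow S hq.1)) _).mp
        (inv_mem hx)
      rw [commutatorElement_def, show x * q * x⁻¹ * q⁻¹ = x * (q * x⁻¹ * q⁻¹) by group]
      exact mul_mem hx h2⟩
    have h3 : ⁅v, q⁆ = 1 :=
      commutatorElement_eq_one_iff_mul_comm.mpr (pCore_le_centralizer_zQ hq.1 v hv)
    have h4 : ⁅v * x, q⁆ = v * ⁅x, q⁆ * v⁻¹ * ⁅v, q⁆ := by simp only [commutatorElement_def]; group
    rw [h4, h3, mul_one, PGroup.mul_comm_of_elementaryAbelian isElementaryAbelian_zQ hv h1.1,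
      mul_inv_cancel_right]
    exact h1
  have hD₀K : D₀ ≤ V ⊓ centralizer (K : Set G) := by
    intro x hx
    refine mem_inf.mpr ⟨(hD₀X hx).1, mem_centralizer_K h d (hD₀X hx).1 fun g hg => ?_⟩
    have hle' : JG ≤ centralizer (D₀ : Set G) := by
      rw [Offender.thompsonSubgroup_le_iff]
      intro A hA a ha z hz
      obtain ⟨g', hgS, hgA⟩ := exists_conj_le_sylow h hA
      have h1 := (PGroup.omegaOne_le _ (hD₀X ((inferInstance : D₀.Normal).conj_mem z hz g')).2).2 _
        (Offender.le_thompsonSubgroupOf hgA hgS ⟨a, ha, rfl⟩)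
      simp only [MulEquiv.coe_toMonoidHom, MulAut.conj_apply] at h1
      have h2 := congrArg (fun w => g'⁻¹ * w * g') h1
      simpa [mul_assoc] using h2.symm
    exact (hle' hg x hx).symm
  obtain ⟨c₁, c₂, rfl, hc₁, hc₂, m, hm⟩ := ConjFun.exists_decomp (p := p) c
  haveI : (V ⊓ centralizer (K : Set G) : Subgroup G).Normal := inferInstance
  have h1J : c₁ ∈ JG := by rw [hm]; exact pow_mem hcJ m
  have h1C : c₁ ∈ C := by rw [hm]; exact pow_mem hc m
  have h2J : c₂ ∈ JG := by simpa using mul_mem (inv_mem h1J) hcJ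
  have h2C : c₂ ∈ C := by simpa using mul_mem (inv_mem h1C) hc
  have h1Q : c₁ ∈ Q := by
    obtain ⟨T, hT⟩ := hc₁.exists_le_sylow
    obtain ⟨g, rfl⟩ := MulAction.exists_smul_eq G T S
    have h3 : g * c₁ * g⁻¹ ∈ Q := h.inf_centralizer.le (mem_inf.mpr
      ⟨⟨c₁, hT (mem_zpowers c₁), rfl⟩, Subgroup.normal_centralizer.conj_mem _ h1C g⟩)
    simpa [mul_assoc] using (PCore.pCore_normal (p := p) (G := G)).conj_mem _ h3 g⁻¹
  have h1 : ⁅y, c₁⁆ ∈ V ⊓ centralizer (K : Set G) :=
    hD₀K (commutator_mem_commutator hy (mem_inf.mpr ⟨h1Q, h1J⟩))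
  have h2 : ⁅y, c₂⁆ = 1 := by
    set z := c₂ * y * c₂⁻¹ * y⁻¹ with hz
    have hzV : z ∈ V := by
      have := inv_mem (commutator_mem_zQ h d (hle hy) h2J)
      rwa [commutatorElement_inv, commutatorElement_def, ← hz] at this
    have hc2z : Commute c₂ z := (h2C z hzV).symm
    have hcop : (orderOf c₂).Coprime (orderOf z) :=
      Nat.Coprime.coprime_dvd_right (orderOf_dvd_of_pow_eq_one (isElementaryAbelian_zQ.2 z hzV)) hc₂
    have := Coprime.commute_of_translate (h := y) (z := z) (by rw [hz]; group) hc2z hcop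
    exact commutatorElement_eq_one_iff_mul_comm.mpr this.symm.eq
  have h3 : ⁅y, c₁ * c₂⁆ = ⁅y, c₁⁆ * (c₁ * ⁅y, c₂⁆ * c₁⁻¹) := by
    simp only [commutatorElement_def]; group
  rw [h3, h2, mul_one, mul_inv_cancel, mul_one]
  exact h1

include hp

/-- `V X = V Y₀`. -/
theorem sup_Y₀_eq : V ⊔ X ≤ V ⊔ Y₀ p S := by
  haveI := VX_normal h d
  haveI := d.K_normal
  obtain ⟨t, htJ, ⟨m, htm⟩, ht⟩ := d.exists_neg hp
  have hle : V ⊔ X ≤ Y := sup_le (zQ_le_Y h d) (X_le_Y h d)
  have hYc : ∀ a ∈ Y, ∀ b ∈ Y, a * b = b * a := fun a ha b hb =>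
    PGroup.mul_comm_of_elementaryAbelian isElementaryAbelian_Y ha hb
  have hcop : ∀ (a z : G), orderOf a ∣ 2 ^ m → z ^ p = 1 → (orderOf a).Coprime (orderOf z) := by
    intro a z ha hz
    refine Nat.Coprime.coprime_dvd_left ha (Nat.Coprime.coprime_dvd_right (orderOf_dvd_of_pow_eq_one hz) ?_)
    exact ((Nat.coprime_primes Nat.prime_two Fact.out).mpr (Ne.symm hp)).pow_left m
  -- fixed points of `t` are fixed by `J(G)`
  have hfix : ∀ y ∈ V ⊔ X, (t : G) * y = y * t → y ∈ Y₀ p S := by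
    intro y hy hyt
    -- invariance under `J(G)`
    have hinv : ∀ g ∈ JG, ∀ y ∈ V ⊔ X, (t : G) * y = y * t → (t : G) * (g * y * g⁻¹) = g * y * g⁻¹ * t := by
      intro g hg y hy hyt
      haveI := Offender.thompsonSubgroup_normal (G := G) (p := p)
      set t' : G := g⁻¹ * t * g with ht'
      set d₀ : G := (t : G)⁻¹ * t' with hd₀
      have hd₀C : d₀ ∈ C := by
        have h1 := d.inv_mul_mem_centralizer (k := t)
          (k' := (⟨g, d.thompson_le hg⟩ : ↥K)⁻¹ * t * ⟨g, d.thompson_le hg⟩) fun i => by simp [ht]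
        exact h1
      have hd₀J : d₀ ∈ JG := mul_mem (inv_mem htJ) (mul_mem (mul_mem (inv_mem hg) htJ) hg)
      set δ := d₀ * y * d₀⁻¹ * y⁻¹ with hδ
      have hδ₀ : δ ∈ V ⊓ centralizer (K : Set G) := by
        have := inv_mem (commutator_mem_fixed h d hy hd₀J hd₀C)
        rwa [commutatorElement_inv, commutatorElement_def, ← hδ] at this
      have e1 : t' * y * t'⁻¹ = δ * y := by
        have e2 : t' = (t : G) * d₀ := by rw [hd₀, mul_inv_cancel_left]
        have e3 : (t : G) * δ = δ * t := hδ₀.2 t t.2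
        calc t' * y * t'⁻¹ = (t : G) * (δ * y) * (t : G)⁻¹ := by rw [e2, hδ]; group
          _ = (δ * t) * y * (t : G)⁻¹ := by rw [← e3]; group
          _ = δ * ((t : G) * y) * (t : G)⁻¹ := by group
          _ = δ * y := by rw [hyt]; group
      have hord : orderOf t' ∣ 2 ^ m := by
        have : orderOf t' = orderOf (t : G) := by
          rw [ht', show g⁻¹ * (t : G) * g = MulAut.conj g⁻¹ (t : G) by simp, MulEquiv.orderOf_eq]
        exact this ▸ htm
      have ht'K : t' ∈ K := d.K_normal.conj_mem' _ t.2 g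
      have := Coprime.commute_of_translate e1 (hδ₀.2 t' ht'K)
        (hcop t' δ hord (isElementaryAbelian_zQ.2 δ hδ₀.1))
      have h2 := congrArg (fun w => g * w * g⁻¹) this.eq
      simp only [ht'] at h2
      simpa [mul_assoc] using h2
    refine mem_inf.mpr ⟨hy, ?_⟩
    -- `J(S)` fixes the fixed points of `t`
    have hJS : ∀ y ∈ V ⊔ X, (t : G) * y = y * t → ∀ a ∈ JS, a * y = y * a := by
      intro y hy hyt a ha
      have haG := Offender.thompsonSubgroupOf_sylow_le S ha
      have h1 := hinv a haG y hy hyt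
      set w := ⁅y, a⁆ with hw
      have hwV : w ∈ V := commutator_mem_zQ h d (hle hy) haG
      have hwt : (t : G) * w = w * t := by
        have e : w = y * (a * y * a⁻¹)⁻¹ := by rw [hw, commutatorElement_def]; group
        rw [e]
        exact ((Commute.inv_right h1).mul_right (show Commute (t : G) y from hyt) |> fun _ =>
          ((show Commute (t : G) y from hyt).mul_right (Commute.inv_right h1))).eq
      obtain ⟨v, hv, x, hx, rfl⟩ := Subgroup.mem_sup_of_normal_left.mp hy
      have hxa : ⁅x, a⁆ = 1 :=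
        commutatorElement_eq_one_iff_mul_comm.mpr ((PGroup.omegaOne_le _ hx).2 a ha).symm
      have hwv : w = ⁅v, a⁆ := by
        rw [hw, show ⁅v * x, a⁆ = v * ⁅x, a⁆ * v⁻¹ * ⁅v, a⁆ by simp only [commutatorElement_def]; group,
          hxa, mul_one, mul_inv_cancel, one_mul]
      let v' : ↥V := ⟨v, hv⟩
      let a' : ↥K := ⟨a, thompson_sylow_le d ha⟩
      have hz : ((v' * (cV a v')⁻¹ : ↥V) : G) = w := by
        rw [hwv]; simp [v', commutatorElement_def, mul_assoc]
      have h3 : (a : G) * v = v * a := by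
        refine d.commute_of_chi_eq hp (k := a') (v := v') fun i => ?_
        have hwc : w ∈ centralizer (K : Set G) := by
          rw [← hz]
          refine d.chi_ker _ fun j => ?_
          apply Multiplicative.toAdd.injective
          rw [toAdd_one]
          have h4 := d.equiv j t (v' * (cV a v')⁻¹)
          rw [cV_eq_self_iff.mpr (hz.symm ▸ hwt), ht] at h4
          haveI := d.charP j
          ext l
          have h5 : Multiplicative.toAdd (d.χ j (v' * (cV a v')⁻¹)) l =
              -Multiplicative.toAdd (d.χ j (v' * (cV a v')⁻¹)) l := by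
            have h9 := congrFun h4 l
            simpa [Matrix.neg_mulVec] using h9
          have h6 : ((2 : ℕ) : F j) * Multiplicative.toAdd (d.χ j (v' * (cV a v')⁻¹)) l = 0 := by
            push_cast
            linear_combination h5
          refine (mul_eq_zero.mp h6).resolve_left fun h7 => hp ?_
          exact (Nat.prime_dvd_prime_iff_eq Fact.out Nat.prime_two).mp
            ((CharP.cast_eq_zero_iff (F j) p 2).mp h7)
        have h8 := d.chi_fixed i _ (hz ▸ hwc)
        rw [map_mul, map_inv, mul_inv_eq_one] at h8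
        exact h8.symm
      exact (show Commute a v from h3).mul_right ((PGroup.omegaOne_le _ hx).2 a ha) |>.eq
    have hle' : JG ≤ centralizer ({y} : Set G) := by
      rw [Offender.thompsonSubgroup_le_iff]
      intro A hA
      -- conjugate into `S` inside `J(G)`
      haveI := Offender.thompsonSubgroup_normal (G := G) (p := p)
      obtain ⟨P, hP⟩ := Offender.exists_sylow_eq_inf S JG
      obtain ⟨j, hj, hle''⟩ := ConjFun.exists_conj_le_of_relIndex (T := (S : Subgroup G) ⊓ JG) (H := JG)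
        (S.2.to_le inf_le_left) (hP ▸ ConjFun.not_dvd_relIndex_of_sylow P)
        (Offender.le_thompsonSubgroup hA) (PGroup.isPGroup_of_elementaryAbelian hA.1)
      intro a ha
      rw [Subgroup.mem_centralizer_singleton_iff]
      have haj := (hle'' ⟨a, ha, rfl⟩).1
      have hAj : A.map (MulAut.conj j).toMonoidHom ≤ (S : Subgroup G) := hle''.trans inf_le_left
      have h1 := hJS _ ((inferInstance : (V ⊔ X).Normal).conj_mem y hy j) (hinv j hj y hy hyt)
        _ (Offender.le_thompsonSubgroupOf (Offender.conj_mem_max j hA) hAj ⟨a, ha, rfl⟩)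
      simp only [MulEquiv.coe_toMonoidHom, MulAut.conj_apply] at h1
      have h2 := congrArg (fun w => j⁻¹ * w * j) h1
      simpa [mul_assoc] using h2
    intro g hg
    exact Subgroup.mem_centralizer_singleton_iff.mp (hle' hg)
  -- split off a fixed point
  intro y hy
  set w := ⁅y, (t : G)⁆ with hw
  have hwV : w ∈ V := commutator_mem_zQ h d (hle hy) htJ
  obtain ⟨u, hu⟩ := d.exists_split ht hp ⟨w, hwV⟩
  have hk : ((⟨w, hwV⟩ * (u * (cV (t : G) u)⁻¹)⁻¹ : ↥V) : G) ∈ centralizer (K : Set G) :=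
    d.chi_ker _ fun i => by rw [map_mul, map_inv, hu i, mul_inv_cancel]
  set y' := (u : G)⁻¹ * y with hy'
  have hy'm : y' ∈ V ⊔ X := mul_mem (mem_sup_left (inv_mem u.2)) hy
  set z := ((⟨w, hwV⟩ * (u * (cV (t : G) u)⁻¹)⁻¹ : ↥V) : G) with hz
  have e1 : y' * t * y'⁻¹ * (t : G)⁻¹ = z := by
    have hu' : (u : G) ∈ Y := zQ_le_Y h d u.2
    have hwY : w ∈ Y := zQ_le_Y h d hwV
    have htu : (t : G) * (u : G) * (t : G)⁻¹ ∈ Y := Y_normal.conj_mem _ hu' _
    have e2 : y' * t * y'⁻¹ * (t : G)⁻¹ = (u : G)⁻¹ * (w * ((t : G) * (u : G) * (t : G)⁻¹)) := by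
      rw [hy', hw, commutatorElement_def]; group
    rw [e2, hz]
    simp only [Subgroup.coe_mul, Subgroup.coe_inv, coe_cV]
    rw [_root_.mul_inv_rev, inv_inv, hYc _ htu _ (inv_mem hu'), ← mul_assoc, ← mul_assoc,
      hYc _ (inv_mem hu') _ hwY]
    simp only [mul_assoc]
  have hzp : z ^ p = 1 := isElementaryAbelian_zQ.2 z (SetLike.coe_mem _)
  have e3 : (t : G) * y' * (t : G)⁻¹ = z⁻¹ * y' := by rw [← e1]; group
  have := Coprime.commute_of_translate e3 (Commute.inv_right (hk t t.2))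
    (by rw [orderOf_inv]; exact hcop t z htm hzp)
  have hy0 := hfix y' hy'm this.eq
  have : y = (u : G) * y' := by rw [hy', mul_inv_cancel_left]
  rw [this]
  exact mul_mem (mem_sup_left u.2) (mem_sup_right hy0)

/-- The normal subgroup of Baumann's lemma. -/
abbrev bN (p : ℕ) (S : Sylow p G) (K : Subgroup G) : Subgroup G :=
  K ⊓ centralizer ((Y₀ p S : Subgroup G) : Set G)

omit hp in
theorem bN_normal : (bN p S K).Normal := by
  haveI := Y₀_normal h d
  haveI := d.K_normal
  infer_instance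

omit hp in
theorem thompson_le_bN : JG ≤ bN p S K :=
  le_inf d.thompson_le fun g hg y hy => (hy.2 g hg).symm

/-- `B(S) = S ∩ N`. -/
theorem baumann_eq_inf : baumannSubgroupOf p (S : Subgroup G) = (S : Subgroup G) ⊓ bN p S K := by
  refine le_antisymm (fun s hs => mem_inf.mpr ⟨hs.1, mem_inf.mpr ⟨?_, ?_⟩⟩) fun s hs => ?_
  · refine mem_K_of_centralizes h d hp hs.1 fun v hv => (hs.2 v ?_).symm
    exact mem_X_of_fixed h d ((isElementaryAbelian_zQ (p := p) (G := G)).2 (v : G) v.2) fun a ha =>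
      hv ⟨a, thompson_sylow_le d ha⟩ (PGroup.thompsonSubgroupOf_le _ ha)
  · intro y hy
    refine hs.2 y (mem_X_of_fixed h d ?_ fun a ha => hy.2 a (Offender.thompsonSubgroupOf_sylow_le S ha))
    exact (isElementaryAbelian_Y (p := p) (G := G)).2 y
      ((sup_le (zQ_le_Y h d) (X_le_Y h d)) hy.1)
  · haveI := Y₀_normal h d
    refine mem_inf.mpr ⟨hs.1, fun x hx => ?_⟩
    obtain ⟨v, hv, y, hy, rfl⟩ := Subgroup.mem_sup_of_normal_left.mp
      (sup_Y₀_eq h d hp (mem_sup_right hx))
    have hva : ∀ a ∈ JS, a * v = v * a := by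
      intro a ha
      have h1 : Commute a y := hy.2 a (Offender.thompsonSubgroupOf_sylow_le S ha)
      have h2 : Commute a (v * y) := (PGroup.omegaOne_le _ hx).2 a ha
      simpa using (h2.mul_right h1.inv_right).eq
    have h3 := commute_of_fixed h d hp (v := ⟨v, hv⟩) hva (k := ⟨s, hs.2.1⟩) hs.1
    have h4 : Commute s y := (hs.2.2 y hy).symm
    exact ((show Commute s v from h3).mul_right h4).eq.symm

end Cfsg.Agent.GlaubermanTransfer
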