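import Cfsg.Agent.Lib.GlaubermanTransfer.Blocks
import Cfsg.Agent.Lib.Offender.Factorization
import Cfsg.Agent.Lib.PushingUp.Common

/-!
# Coordinates from the block decomposition

* `exists_data`: blocks acting naturally on the `[V, E i]`, with `V = C_V(⟨E i⟩) ∏ [V, E i]`, give a `Data`
-/

set_option autoImplicit false

namespace Cfsg.Agent.GlaubermanTransfer

open Subgroup
open scoped commutatorElement MatrixGroups

universe u

theorem sl2_ext {R : Type*} [Field R] {A B : SL(2, R)}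
    (h : ∀ x : Fin 2 → R, (A : Matrix (Fin 2) (Fin 2) R).mulVec x = (B : Matrix (Fin 2) (Fin 2) R).mulVec x) :
    A = B :=
  Matrix.SpecialLinearGroup.ext _ _ fun a b => by
    simpa using congrFun (h (Pi.single b 1)) a

variable {G : Type u} [Group G] [Finite G] {p : ℕ} [Fact p.Prime]

theorem mulVec_mulVec_sl2 {R : Type*} [Field R] (A B : SL(2, R)) (x : Fin 2 → R) :
    (A : Matrix (Fin 2) (Fin 2) R).mulVec ((B : Matrix (Fin 2) (Fin 2) R).mulVec x) =
      ((A * B : SL(2, R)) : Matrix (Fin 2) (Fin 2) R).mulVec x := by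
  rw [Matrix.mulVec_mulVec, Matrix.SpecialLinearGroup.coe_mul]

set_option maxHeartbeats 800000 in
/-- The data of the blocks. -/
theorem exists_data (hp : p ≠ 2) (S : Sylow p G) {r : ℕ} (E : Fin r → Subgroup G)
    (hC : ∀ i, centralizer (zQ p G : Set G) ≤ E i)
    (htop : thompsonSubgroup p G ⊔ (S : Subgroup G) ⊔ centralizer (zQ p G : Set G) = ⊤)
    (hK : (⨆ i, E i) = thompsonSubgroup p G ⊔ centralizer (zQ p G : Set G))
    (hcomm : ∀ i j, i ≠ j → ⁅E i, E j⁆ ≤ centralizer (zQ p G : Set G))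
    (hconj : ∀ i j, ∃ t ∈ (S : Subgroup G), (E i).map (MulAut.conj t).toMonoidHom = E j)
    (hdec : (zQ p G ⊓ centralizer ((⨆ i, E i : Subgroup G) : Set G)) ⊔ (⨆ i, ⁅zQ p G, E i⁆) = zQ p G)
    (hmix : ∀ i j, i ≠ j → ⁅⁅zQ p G, E i⁆, E j⁆ = ⊥)
    (hshape : ∀ i, ∃ (F : Type) (_ : Field F) (_ : Fintype F) (n : ℕ), Fintype.card F = p ^ n ∧
      (∃ _ : ((centralizer (zQ p G : Set G)).subgroupOf (E i)).Normal,
        Nonempty (↥(E i) ⧸ (centralizer (zQ p G : Set G)).subgroupOf (E i) ≃* SL(2, F))) ∧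
      Cfsg.ActsAsSL2OnSection F ⊤ (E i) ⁅zQ p G, E i⁆
        (⁅zQ p G, E i⁆ ⊓ centralizer ((E i : Subgroup G) : Set G))) :
    ∃ (K : Subgroup G) (F : Fin r → Type) (_ : ∀ i, Field (F i)) (_ : ∀ i, Fintype (F i)),
      Nonempty (Data p S K F) := by
  classical
  choose F hfield hfin n hn hiso hact using hshape
  refine ⟨⨆ i, E i, F, hfield, hfin, ?_⟩
  set K : Subgroup G := ⨆ i, E i with hKdef
  set V := zQ p G with hVdef
  set C := centralizer (V : Set G) with hCdef
  haveI : C.Normal := Subgroup.normal_centralizer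
  have hV := isElementaryAbelian_zQ (p := p) (G := G)
  have hVc : ∀ a ∈ V, ∀ b ∈ V, a * b = b * a := fun a ha b hb => PGroup.mul_comm_of_elementaryAbelian hV ha hb
  haveI hchar : ∀ i, CharP (F i) p := fun i => charP_of_card_eq_prime_pow (hn i)
  have h2 : ∀ i, (2 : F i) ≠ 0 := fun i h => hp ((Nat.prime_dvd_prime_iff_eq Fact.out Nat.prime_two).mp
    ((CharP.cast_eq_zero_iff (F i) p 2).mp (by exact_mod_cast h)))
  choose hnU hU₀ ρ₀ ψ hρ₀ hψs hψk hψe using fun i => hact i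
  set U : Fin r → Subgroup G := fun i => ⁅V, E i⁆ with hUdef
  have hUV : ∀ i, U i ≤ V := fun i => Subgroup.commutator_le_left V (E i)
  have hρs : ∀ i, Function.Surjective (ρ₀ i) := fun i => MonoidHom.range_eq_top.mp (hρ₀ i)
  have hfix : ∀ l j, l ≠ j → ∀ u ∈ U l, ∀ e ∈ E j, e * u * e⁻¹ = u := by
    intro l j hlj u hu e he
    rw [(commutator_eq_bot_iff_le_centralizer.mp (hmix l j hlj) hu e he), mul_inv_cancel_right]
  -- `C` is the kernel of the action on `U i`
  have hker : ∀ i, (ρ₀ i).ker = C.subgroupOf (E i) := by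
    intro i
    have hle : C.subgroupOf (E i) ≤ (ρ₀ i).ker := by
      intro e he
      refine sl2_ext fun x => ?_
      obtain ⟨u, hu⟩ := hψs i (Multiplicative.ofAdd x)
      obtain ⟨w, hw, hwe⟩ := hψe i e u
      have hwu : w = u := Subtype.ext (by
        rw [hw, ← mem_subgroupOf.mp he u (hUV i u.2), mul_inv_cancel_right])
      rw [hwu, hu, toAdd_ofAdd] at hwe
      rw [Matrix.SpecialLinearGroup.coe_one, Matrix.one_mulVec]
      exact hwe.symm
    obtain ⟨_, ⟨iso⟩⟩ := hiso i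
    refine (Subgroup.eq_of_le_of_card_ge hle ?_).symm
    have e1 := (ρ₀ i).ker.card_eq_card_quotient_mul_card_subgroup
    have e2 := (C.subgroupOf (E i)).card_eq_card_quotient_mul_card_subgroup
    rw [Nat.card_congr (QuotientGroup.quotientKerEquivOfSurjective _ (hρs i)).toEquiv] at e1
    rw [Nat.card_congr iso.toEquiv, e1] at e2
    exact (Nat.eq_of_mul_eq_mul_left (Nat.card_pos (α := SL(2, F i))) e2).le
  -- generation of `V`
  have hVU : V ⊓ centralizer (K : Set G) ≤ normalizer ((⨆ i, U i : Subgroup G) : Set G) := fun x hx =>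
    centralizer_le_normalizer _ fun y hy => hVc _ ((iSup_le hUV : (⨆ i, U i) ≤ V) hy) _ hx.1
  have hgen : ∀ P : ↥V → Prop, P 1 → (∀ a b, P a → P b → P (a * b)) →
      (∀ v : ↥V, (v : G) ∈ centralizer (K : Set G) → P v) → (∀ i (v : ↥V), (v : G) ∈ U i → P v) →
      ∀ v, P v := by
    intro P h1 hmul h0 hU v
    obtain ⟨a, ha, b, hb, hab⟩ := (Coprime.mem_sup_iff_of_le_normalizer hVU).mp (hdec.ge v.2)
     
    have hb' : ∃ hbV : b ∈ V, P ⟨b, hbV⟩ := by
      refine Subgroup.iSup_induction (S := U) (C := fun x => ∃ hx : x ∈ V, P ⟨x, hx⟩) hb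
        (fun i x hx => ⟨hUV i hx, hU i _ hx⟩) ⟨one_mem _, h1⟩ ?_
      rintro x y ⟨hx, hPx⟩ ⟨hy, hPy⟩
      exact ⟨mul_mem hx hy, hmul _ _ hPx hPy⟩
    obtain ⟨hbV, hPb⟩ := hb'
    have : v = ⟨a, ha.1⟩ * ⟨b, hbV⟩ := Subtype.ext hab.symm
    rw [this]
    exact hmul _ _ (h0 _ ha.2) hPb
  -- coordinates
  choose z hz using fun i => hρs i (-1)
  have hzmem : ∀ i (v : ↥V), ⁅(v : G), (z i : G)⁆ ∈ U i := fun i v =>
    commutator_mem_commutator v.2 (z i).2
  let χ : ∀ i, ↥V →* Multiplicative (Fin 2 → F i) := fun i => MonoidHom.mk'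
    (fun v => Multiplicative.ofAdd ((2 : F i)⁻¹ • Multiplicative.toAdd (ψ i ⟨_, hzmem i v⟩)))
    (fun a b => by
      have e : (⟨_, hzmem i (a * b)⟩ : ↥(U i)) = ⟨_, hzmem i a⟩ * ⟨_, hzmem i b⟩ := Subtype.ext (by
        have hb' := hUV i (hzmem i b)
        show ⁅(a : G) * (b : G), (z i : G)⁆ = ⁅(a : G), (z i : G)⁆ * ⁅(b : G), (z i : G)⁆
        rw [show ⁅(a : G) * (b : G), (z i : G)⁆ = a * ⁅(b : G), (z i : G)⁆ * (a : G)⁻¹ * ⁅(a : G), (z i : G)⁆ by
          simp only [commutatorElement_def]; group, hVc _ a.2 _ hb', mul_inv_cancel_right,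
          hVc _ hb' _ (hUV i (hzmem i a))])
      rw [e, map_mul, toAdd_mul, smul_add, ofAdd_add])
  have hχU : ∀ i (u : ↥(U i)), χ i ⟨u, hUV i u.2⟩ = ψ i u := by
    intro i u
    obtain ⟨w, hw, hwe⟩ := hψe i (z i) u
    have e : (⟨_, hzmem i ⟨u, hUV i u.2⟩⟩ : ↥(U i)) = u * w⁻¹ := Subtype.ext (by
      show ⁅(u : G), (z i : G)⁆ = u * (w : G)⁻¹
      rw [hw, commutatorElement_def]; group)
    apply Multiplicative.toAdd.injective
    show (2 : F i)⁻¹ • Multiplicative.toAdd (ψ i ⟨_, hzmem i ⟨u, hUV i u.2⟩⟩) = _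
    rw [e, map_mul, map_inv, toAdd_mul, toAdd_inv, hwe, hz]
    simp only [Matrix.SpecialLinearGroup.coe_neg, Matrix.SpecialLinearGroup.coe_one, Matrix.neg_mulVec,
      Matrix.one_mulVec, neg_neg]
    rw [← two_smul (F i), smul_smul, inv_mul_cancel₀ (h2 i), one_smul]
  have hχ1 : ∀ i (v : ↥V), (z i : G) * v = v * z i → χ i v = 1 := by
    intro i v hv
    have e : (⟨_, hzmem i v⟩ : ↥(U i)) = 1 := Subtype.ext (commutatorElement_eq_one_iff_mul_comm.mpr hv.symm)
    apply Multiplicative.toAdd.injective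
    show (2 : F i)⁻¹ • Multiplicative.toAdd (ψ i ⟨_, hzmem i v⟩) = _
    rw [e, map_one, toAdd_one, smul_zero]
  have hχ0 : ∀ i (v : ↥V), (v : G) ∈ centralizer (K : Set G) → χ i v = 1 := fun i v hv =>
    hχ1 i v (hv (z i) (le_iSup E i (z i).2))
  have hχo : ∀ i l, l ≠ i → ∀ v : ↥V, (v : G) ∈ U l → χ i v = 1 := fun i l hl v hv =>
    hχ1 i v (mul_inv_eq_iff_eq_mul.mp (hfix l i hl v hv (z i) (z i).2))
  have hcVU : ∀ j (e : G), e ∈ E j → ∀ l (v : ↥V), (v : G) ∈ U l → (cV e v : G) ∈ U l := by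
    intro j e he l v hv
    rw [coe_cV]
    by_cases hlj : l = j
    · subst hlj
      exact (mem_normalizer_iff.mp (hnU l he) _).mp hv
    · rw [hfix l j hlj v hv e he]
      exact hv
  have hcV0 : ∀ k ∈ K, ∀ v : ↥V, (v : G) ∈ centralizer (K : Set G) → cV k v = v := fun k hk v hv =>
    cV_eq_self_iff.mpr (hv k hk)
  have hblock : ∀ i j (e : G) (he : e ∈ E j), ∃ A : SL(2, F i), (j ≠ i → A = 1) ∧
      (∀ h : j = i, A = ρ₀ i ⟨e, h ▸ he⟩) ∧
      ∀ v : ↥V, Multiplicative.toAdd (χ i (cV e v)) =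
        (A : Matrix (Fin 2) (Fin 2) (F i)).mulVec (Multiplicative.toAdd (χ i v)) := by
    intro i j e he
    have hlin : ∀ A : SL(2, F i),
        (∀ l (v : ↥V), (v : G) ∈ U l → Multiplicative.toAdd (χ i (cV e v)) =
          (A : Matrix (Fin 2) (Fin 2) (F i)).mulVec (Multiplicative.toAdd (χ i v))) →
        ∀ v : ↥V, Multiplicative.toAdd (χ i (cV e v)) =
          (A : Matrix (Fin 2) (Fin 2) (F i)).mulVec (Multiplicative.toAdd (χ i v)) := by
      intro A hA
      refine hgen _ ?_ (fun a b ha hb => ?_) (fun v hv => ?_) hA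
      · rw [show cV e (1 : ↥V) = 1 from Subtype.ext (by simp), map_one, toAdd_one, Matrix.mulVec_zero]
      · rw [show cV e (a * b) = cV e a * cV e b from Subtype.ext (by simp [mul_assoc])]
        simp only [map_mul, toAdd_mul, ha, hb, Matrix.mulVec_add]
      · rw [hcV0 e (le_iSup E j he) v hv, hχ0 i v hv, toAdd_one, Matrix.mulVec_zero]
    by_cases hji : j = i
    · subst hji
      refine ⟨ρ₀ j ⟨e, he⟩, fun h => absurd rfl h, fun _ => rfl, hlin _ fun l v hv => ?_⟩
      by_cases hlj : l = j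
      · subst hlj
        obtain ⟨w, hw, hwe⟩ := hψe l ⟨e, he⟩ ⟨v, hv⟩
        rw [show cV e v = ⟨w, hUV l w.2⟩ from Subtype.ext (by rw [hw]; rfl), hχU,
          show v = ⟨((⟨v, hv⟩ : ↥(U l)) : G), hUV l hv⟩ from rfl, hχU]
        exact hwe
      · rw [hχo j l hlj _ (hcVU j e he l v hv), hχo j l hlj v hv, toAdd_one, Matrix.mulVec_zero]
    · refine ⟨1, fun _ => rfl, fun h => absurd h hji, hlin _ fun l v hv => ?_⟩
      rw [Matrix.SpecialLinearGroup.coe_one, Matrix.one_mulVec]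
      by_cases hli : l = i
      · subst hli
        rw [show cV e v = v from Subtype.ext (hfix l j (Ne.symm hji) v hv e he)]
      · rw [hχo i l hli _ (hcVU j e he l v hv), hχo i l hli v hv]
  have hχs : ∀ i (x : Fin 2 → F i), ∃ u : ↥(U i), Multiplicative.toAdd (χ i ⟨u, hUV i u.2⟩) = x := by
    intro i x
    obtain ⟨u, hu⟩ := hψs i (Multiplicative.ofAdd x)
    exact ⟨u, by rw [hχU, hu, toAdd_ofAdd]⟩
  have huniq : ∀ i (A B : SL(2, F i)),
      (∀ v : ↥V, (A : Matrix (Fin 2) (Fin 2) (F i)).mulVec (Multiplicative.toAdd (χ i v)) =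
        (B : Matrix (Fin 2) (Fin 2) (F i)).mulVec (Multiplicative.toAdd (χ i v))) → A = B := by
    intro i A B h
    refine sl2_ext fun x => ?_
    obtain ⟨u, hu⟩ := hχs i x
    rw [← hu]
    exact h _
  have hrep : ∀ i (k : ↥K), ∃ A : SL(2, F i), ∀ v : ↥V, Multiplicative.toAdd (χ i (cV (k : G) v)) =
      (A : Matrix (Fin 2) (Fin 2) (F i)).mulVec (Multiplicative.toAdd (χ i v)) := by
    intro i k
    refine Subgroup.iSup_induction (S := E) (C := fun x : G => ∃ A : SL(2, F i), ∀ v : ↥V,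
      Multiplicative.toAdd (χ i (cV x v)) =
        (A : Matrix (Fin 2) (Fin 2) (F i)).mulVec (Multiplicative.toAdd (χ i v))) k.2
      (fun j e he => ?_) ⟨1, fun v => ?_⟩ ?_
    · obtain ⟨A, -, -, hA⟩ := hblock i j e he
      exact ⟨A, hA⟩
    · rw [show cV (1 : G) v = v from Subtype.ext (by simp), Matrix.SpecialLinearGroup.coe_one, Matrix.one_mulVec]
    · rintro x y ⟨A, hA⟩ ⟨B, hB⟩
      exact ⟨A * B, fun v => by rw [cV_mul, hA, hB, mulVec_mulVec_sl2]⟩
  choose R hR using hrep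
  let ρ : ∀ i, ↥K →* SL(2, F i) := fun i => MonoidHom.mk' (R i) fun a b => huniq i _ _ fun v => by
    rw [← hR i (a * b) v, Subgroup.coe_mul, cV_mul, hR, hR, mulVec_mulVec_sl2]
  have hρE : ∀ i (e : ↥(E i)), ρ i ⟨e, le_iSup E i e.2⟩ = ρ₀ i e := by
    intro i e
    obtain ⟨A, -, hA, hA'⟩ := hblock i i e e.2
    exact (huniq i _ _ fun v => (hR i ⟨e, le_iSup E i e.2⟩ v).symm.trans (hA' v)).trans (hA rfl)
  have hρo : ∀ i j, j ≠ i → ∀ k : ↥K, (k : G) ∈ E i → ρ j k = 1 := by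
    intro i j hij k hk
    obtain ⟨A, hA, -, hA'⟩ := hblock j i k hk
    exact (huniq j _ _ fun v => (hR j k v).symm.trans (hA' v)).trans (hA (Ne.symm hij))
  -- the joint kernel
  have hρk : ∀ k : ↥K, (∀ i, ρ i k = 1) → (k : G) ∈ C := by
    have hmem : ∀ k ∈ K, k ∈ ⨆ i ∈ (Finset.univ : Finset (Fin r)), E i := fun k hk => by simpa using hk
    suffices H : ∀ (s : Finset (Fin r)) (k : ↥K), (k : G) ∈ (⨆ i ∈ s, E i) → (∀ i, ρ i k = 1) →
        (k : G) ∈ C from fun k hk => H _ k (hmem k k.2) hk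
    intro s
    induction s using Finset.induction with
    | empty => intro k hk _; simp at hk; simp [hk, one_mem]
    | @insert a s ha ih =>
      intro k hk hk1
      rw [Finset.iSup_insert] at hk
      have hn' : (⨆ i ∈ s, E i) ≤ normalizer (E a : Set G) := by
        refine iSup₂_le fun j hj e he => ?_
        have haj : a ≠ j := fun h => ha (h ▸ hj)
        refine mem_normalizer_iff.mpr fun x => ⟨fun hx => ?_, fun hx => ?_⟩
        · rw [show e * x * e⁻¹ = ⁅x, e⁆⁻¹ * x by simp only [commutatorElement_def]; group]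
          exact mul_mem (inv_mem (hC a (hcomm a j haj (commutator_mem_commutator hx he)))) hx
        · have h1 := mul_mem (inv_mem (hC a (hcomm a j haj (commutator_mem_commutator hx (inv_mem he))))) hx
          rw [show ⁅e * x * e⁻¹, e⁻¹⁆⁻¹ * (e * x * e⁻¹) = x by simp only [commutatorElement_def]; group] at h1
          exact h1
      rw [sup_comm] at hk
      obtain ⟨y, hy, e, he, hye⟩ := (Coprime.mem_sup_iff_of_le_normalizer hn').mp hk
      have hyK : y ∈ K := (iSup₂_le fun j _ => le_iSup E j) hy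
      have hρy : ρ a ⟨y, hyK⟩ = 1 := by
        have hle : (⨆ i ∈ s, E i) ≤ (ρ a).ker.map K.subtype := iSup₂_le fun j hj x hx =>
          ⟨⟨x, le_iSup E j hx⟩, hρo j a (fun h => ha (h ▸ hj)) _ hx, rfl⟩
        obtain ⟨y', hy', he'⟩ := hle hy
        rw [show (⟨y, hyK⟩ : ↥K) = y' from Subtype.ext he'.symm]
        exact hy'
      have hk' : k = ⟨y, hyK⟩ * ⟨e, le_iSup E a he⟩ := Subtype.ext hye.symm
      have he1 : e ∈ C := by
        have h1 := hk1 a
        rw [hk', map_mul, hρy, one_mul, hρE a ⟨e, he⟩] at h1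
        exact mem_subgroupOf.mp ((hker a).le h1)
      have hρC : ∀ i, ρ i ⟨e, le_iSup E a he⟩ = 1 := fun i => huniq i _ _ fun v => by
        refine (hR i ⟨e, le_iSup E a he⟩ v).symm.trans ?_
        rw [Matrix.SpecialLinearGroup.coe_one, Matrix.one_mulVec]
        exact congrArg (fun w => Multiplicative.toAdd (χ i w)) (cV_eq_self_iff.mpr (he1 v v.2).symm)
      have hy1 := ih ⟨y, hyK⟩ hy fun i => by
        have h1 := hk1 i
        rwa [hk', map_mul, hρC i, mul_one] at h1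
      rw [← hye]
      exact mul_mem hy1 he1
  -- no other kernel on `V`
  have hχk : ∀ v : ↥V, (∀ i, χ i v = 1) → (v : G) ∈ centralizer (K : Set G) := by
    intro v hv
    have hsplit : ∀ w : ↥V, ∀ s : Finset (Fin r), (w : G) ∈ (⨆ i ∈ s, U i) → (∀ i, χ i w = 1) →
        (w : G) ∈ centralizer (K : Set G) := by
      intro w s
      induction s using Finset.induction generalizing w with
      | empty => intro hw _; simp at hw; simp [hw, one_mem]
      | @insert a s ha ih =>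
        intro hw hw1
        rw [Finset.iSup_insert] at hw
        have hn' : U a ≤ normalizer ((⨆ i ∈ s, U i : Subgroup G) : Set G) :=
          fun x hx => centralizer_le_normalizer _ fun y hy =>
            hVc _ ((iSup₂_le fun j _ => hUV j : (⨆ i ∈ s, U i) ≤ V) hy) _ (hUV a hx)
        obtain ⟨x, hx, y, hy, hxy⟩ := (Coprime.mem_sup_iff_of_le_normalizer hn').mp hw
        have hyV : y ∈ V := (iSup₂_le fun j _ => hUV j : (⨆ i ∈ s, U i) ≤ V) hy
        have hya : χ a ⟨y, hyV⟩ = 1 := by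
          have hle : (⨆ i ∈ s, U i) ≤ (χ a).ker.map V.subtype := iSup₂_le fun j hj x hx =>
            ⟨⟨x, hUV j hx⟩, hχo a j (fun h => ha (h ▸ hj)) _ hx, rfl⟩
          obtain ⟨y', hy', he'⟩ := hle hy
          rw [show (⟨y, hyV⟩ : ↥V) = y' from Subtype.ext he'.symm]
          exact hy'
        have hw' : w = ⟨x, hUV a hx⟩ * ⟨y, hyV⟩ := Subtype.ext hxy.symm
        have hψx : ψ a ⟨x, hx⟩ = 1 := by
          have h1 := hw1 a
          rw [hw', map_mul, hya, mul_one] at h1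
          exact (hχU a ⟨x, hx⟩).symm.trans h1
        have hxK : x ∈ centralizer (K : Set G) := by
          have hle : K ≤ centralizer ({x} : Set G) := iSup_le fun j e he => by
            rw [mem_centralizer_singleton_iff]
            by_cases hja : a = j
            · subst hja
              exact ((hψk a ⟨x, hx⟩).mp hψx).2 e he
            · exact mul_inv_eq_iff_eq_mul.mp (hfix a j hja x hx e he)
          exact fun e he => mem_centralizer_singleton_iff.mp (hle he)
        have hy1 := ih ⟨y, hyV⟩ hy fun i => by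
          have h1 := hw1 i
          rwa [hw', map_mul, hχ0 i ⟨x, hUV a hx⟩ hxK, one_mul] at h1
        rw [← hxy]
        exact mul_mem hxK hy1
    obtain ⟨a, ha, b, hb, hab⟩ := (Coprime.mem_sup_iff_of_le_normalizer hVU).mp (hdec.ge v.2)
    have hbV : b ∈ V := (iSup_le hUV : (⨆ i, U i) ≤ V) hb
    have hv' : v = ⟨a, ha.1⟩ * ⟨b, hbV⟩ := Subtype.ext hab.symm
    have hb1 := hsplit ⟨b, hbV⟩ Finset.univ (by simpa using hb) fun i => by
      have h1 := hv i
      rwa [hv', map_mul, hχ0 i ⟨a, ha.1⟩ ha.2, one_mul] at h1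
    rw [← hab]
    exact mul_mem ha.2 hb1
  -- adapt the coordinates to `S`
  haveI hKn : K.Normal := by
    rw [hK]
    haveI := Offender.thompsonSubgroup_normal (G := G) (p := p)
    infer_instance
  obtain ⟨PK, hPK⟩ := Offender.exists_sylow_eq_inf S K
  have hρsurj : ∀ i, Function.Surjective (ρ i) := fun i A => by
    obtain ⟨e, he⟩ := hρs i A
    exact ⟨⟨e, le_iSup E i e.2⟩, (hρE i e).trans he⟩
  choose P₀ hP₀ using fun i => NaturalSL2.exists_sylow_upperUni (F := F i) (hn i)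
  choose g hg using fun i => MulAction.exists_smul_eq SL(2, F i) (P₀ i) (PK.mapSurjective (hρsurj i))
  let ρ' : ∀ i, ↥K →* SL(2, F i) := fun i => (MulAut.conj (g i)⁻¹).toMonoidHom.comp (ρ i)
  have hρ'S : ∀ i, (PK : Subgroup ↥K).map (ρ' i) = NaturalSL2.upperUni (F i) := by
    intro i
    have h1 : ((PK : Subgroup ↥K).map (ρ i)) = (P₀ i : Subgroup SL(2, F i)).map (MulAut.conj (g i)).toMonoidHom :=
      (congrArg (fun Q : Sylow p SL(2, F i) => (Q : Subgroup SL(2, F i))) (hg i)).symm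
    rw [show (PK : Subgroup ↥K).map (ρ' i) =
      ((PK : Subgroup ↥K).map (ρ i)).map (MulAut.conj (g i)⁻¹).toMonoidHom from (Subgroup.map_map _ _ _).symm,
      h1, Subgroup.map_map, hP₀]
    convert Subgroup.map_id _ using 2
    exact MonoidHom.ext fun x => by simp [mul_assoc]
  have hPKmem : ∀ k : ↥K, (k : G) ∈ (S : Subgroup G) → k ∈ (PK : Subgroup ↥K) := fun k hk => by
    obtain ⟨k', hk', e⟩ := hPK.ge ⟨hk, k.2⟩
    rwa [show k = k' from Subtype.ext e.symm]
  have hEn : ∀ i, ((E i).subgroupOf K).Normal := fun i =>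
    (normal_subgroupOf_iff_le_normalizer (le_iSup E i)).mpr (iSup_le fun j e he => by
      by_cases hji : i = j
      · subst hji
        exact le_normalizer he
      · refine mem_normalizer_iff.mpr fun x => ⟨fun hx => ?_, fun hx => ?_⟩
        · rw [show e * x * e⁻¹ = ⁅x, e⁆⁻¹ * x by simp only [commutatorElement_def]; group]
          exact mul_mem (inv_mem (hC i (hcomm i j hji (commutator_mem_commutator hx he)))) hx
        · have h1 := mul_mem (inv_mem (hC i (hcomm i j hji (commutator_mem_commutator hx (inv_mem he))))) hx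
          rw [show ⁅e * x * e⁻¹, e⁻¹⁆⁻¹ * (e * x * e⁻¹) = x by simp only [commutatorElement_def]; group] at h1
          exact h1)
  let χ' : ∀ i, ↥V →* Multiplicative (Fin 2 → F i) := fun i => MonoidHom.mk'
    (fun v => Multiplicative.ofAdd (((((g i)⁻¹ : SL(2, F i))) : Matrix (Fin 2) (Fin 2) (F i)).mulVec
      (Multiplicative.toAdd (χ i v))))
    (fun a b => by rw [map_mul, toAdd_mul, Matrix.mulVec_add, ofAdd_add])
  refine ⟨{
    E := E
    χ := χ'
    ρ := ρ'
    eK := hK.symm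
    sup_top := htop
    iSup_E := rfl
    cent_le := hC
    norm_E := fun i => (normal_subgroupOf_iff_le_normalizer (le_iSup E i)).mp (hEn i)
    conj_E := hconj
    equiv := fun i k v => ?_
    chi_ker := fun v hv => hχk v fun i => ?_
    chi_fixed := fun i v hv => ?_
    chi_surj := fun x => ?_
    rho_ker := fun k hk => hρk k fun i => ?_
    rho_other := fun i j hij k hk => ?_
    rho_surj := fun i A => ?_
    rho_S := fun i k hk => (hρ'S i).le (mem_map_of_mem (ρ' i) (hPKmem k hk))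
    rho_S_surj := fun i a => ?_
    card_F := fun i => ⟨n i, hn i⟩ }⟩
  · show _ = ((((g i)⁻¹ * ρ i k * ((g i)⁻¹)⁻¹ : SL(2, F i))) : Matrix (Fin 2) (Fin 2) (F i)).mulVec _
    show (((g i)⁻¹ : SL(2, F i)) : Matrix (Fin 2) (Fin 2) (F i)).mulVec (Multiplicative.toAdd (χ i (cV (k : G) v))) =
      (((g i)⁻¹ * ρ i k * ((g i)⁻¹)⁻¹ : SL(2, F i)) : Matrix (Fin 2) (Fin 2) (F i)).mulVec
        ((((g i)⁻¹ : SL(2, F i)) : Matrix (Fin 2) (Fin 2) (F i)).mulVec (Multiplicative.toAdd (χ i v)))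
    rw [hR i k v, mulVec_mulVec_sl2, mulVec_mulVec_sl2, inv_mul_cancel_right]
    rfl
  · have h1 := congrArg Multiplicative.toAdd (hv i)
    change (((g i)⁻¹ : SL(2, F i)) : Matrix (Fin 2) (Fin 2) (F i)).mulVec (Multiplicative.toAdd (χ i v)) = 0 at h1
    apply Multiplicative.toAdd.injective
    have h2 := congrArg ((g i : Matrix (Fin 2) (Fin 2) (F i)).mulVec) h1
    rw [mulVec_mulVec_sl2, mul_inv_cancel, Matrix.SpecialLinearGroup.coe_one, Matrix.one_mulVec,
      Matrix.mulVec_zero] at h2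
    exact h2
  · apply Multiplicative.toAdd.injective
    show (((g i)⁻¹ : SL(2, F i)) : Matrix (Fin 2) (Fin 2) (F i)).mulVec (Multiplicative.toAdd (χ i v)) = 0
    rw [hχ0 i v hv, toAdd_one, Matrix.mulVec_zero]
  · suffices H : ∀ s : Finset (Fin r), ∃ v : ↥V, (∀ i ∈ s, Multiplicative.toAdd (χ i v) =
        (g i : Matrix (Fin 2) (Fin 2) (F i)).mulVec (x i)) ∧ ∀ i ∉ s, χ i v = 1 by
      obtain ⟨v, hv, -⟩ := H Finset.univ
      refine ⟨v, fun i => ?_⟩
      show (((g i)⁻¹ : SL(2, F i)) : Matrix (Fin 2) (Fin 2) (F i)).mulVec (Multiplicative.toAdd (χ i v)) = x i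
      rw [hv i (Finset.mem_univ i), mulVec_mulVec_sl2, inv_mul_cancel, Matrix.SpecialLinearGroup.coe_one,
        Matrix.one_mulVec]
    intro s
    induction s using Finset.induction with
    | empty => exact ⟨1, fun i hi => absurd hi (Finset.notMem_empty i), fun i _ => map_one _⟩
    | @insert a s ha ih =>
      obtain ⟨v, hv, hv'⟩ := ih
      obtain ⟨u, hu⟩ := hχs a ((g a : Matrix (Fin 2) (Fin 2) (F a)).mulVec (x a))
      refine ⟨⟨u, hUV a u.2⟩ * v, fun i hi => ?_, fun i hi => ?_⟩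
      · rcases Finset.mem_insert.mp hi with rfl | hi'
        · rw [map_mul, hv' i ha, mul_one, hu]
        · rw [map_mul, hχo i a (fun h => ha (h ▸ hi')) ⟨u, hUV a u.2⟩ u.2, one_mul, hv i hi']
      · obtain ⟨h1, h2⟩ := not_or.mp (fun h => hi (Finset.mem_insert.mpr h))
        rw [map_mul, hχo i a (Ne.symm h1) ⟨u, hUV a u.2⟩ u.2, hv' i h2, one_mul]
  · have h1 := hk i
    exact (MulAut.conj (g i)⁻¹).injective (h1.trans (map_one _).symm)
  · show MulAut.conj (g j)⁻¹ (ρ j k) = 1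
    rw [hρo i j hij k hk, map_one]
  · obtain ⟨e, he⟩ := hρs i (g i * A * (g i)⁻¹)
    refine ⟨⟨e, le_iSup E i e.2⟩, e.2, ?_⟩
    show MulAut.conj (g i)⁻¹ (ρ i ⟨e, le_iSup E i e.2⟩) = A
    rw [hρE i e, he]
    simp [mul_assoc]
  · haveI := hEn i
    obtain ⟨R₁, hR₁⟩ := Offender.exists_sylow_eq_inf PK ((E i).subgroupOf K)
    have hf : Function.Surjective ((ρ' i).comp ((E i).subgroupOf K).subtype) := by
      intro A
      obtain ⟨e, he⟩ := hρs i (g i * A * (g i)⁻¹)
      refine ⟨⟨⟨e, le_iSup E i e.2⟩, mem_subgroupOf.mpr e.2⟩, ?_⟩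
      show MulAut.conj (g i)⁻¹ (ρ i ⟨e, le_iSup E i e.2⟩) = A
      rw [hρE i e, he]
      simp [mul_assoc]
    have hle : ((R₁.mapSurjective hf : Sylow p SL(2, F i)) : Subgroup SL(2, F i)) ≤ NaturalSL2.upperUni (F i) := by
      rintro _ ⟨x, hx, rfl⟩
      exact (hρ'S i).le (mem_map_of_mem (ρ' i) (hR₁.le (mem_map_of_mem _ hx)).1)
    have heq := (R₁.mapSurjective hf).3 (hP₀ i ▸ (P₀ i).2) hle
    obtain ⟨x, hx, hxe⟩ : NaturalSL2.uni a ∈ ((R₁.mapSurjective hf : Sylow p SL(2, F i)) : Subgroup SL(2, F i)) := by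
      rw [← heq]; exact NaturalSL2.uni_mem a
    have hx' := hR₁.le (mem_map_of_mem ((E i).subgroupOf K).subtype hx)
    exact ⟨(x : ↥K), (hPK.le (mem_map_of_mem K.subtype hx'.1)).1, mem_subgroupOf.mp x.2, hxe⟩

end Cfsg.Agent.GlaubermanTransfer
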