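import Cfsg.Agent.Lib.GlaubermanTransfer.Local
import Cfsg.Agent.Lib.ConjFun.Chief

/-!
# An Engel element

* `exists_engel`: some element of `S` outside `O_p(G)` acts quadratically on every chief factor in
  `O_p(G)` centralised by `C_G(Ω₁(Z(O_p(G))))`
-/

set_option autoImplicit false

namespace Cfsg.Agent.GlaubermanTransfer

open Subgroup
open scoped commutatorElement MatrixGroups

universe u

variable {G : Type u} [Group G] [Finite G] {p : ℕ} [Fact p.Prime]

/-- Elementwise quadratic action gives `iterCommutator U ⟨u⟩ j ≤ W` for `2 ≤ j`. -/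
theorem iterCommutator_le_of_quadratic {U W : Subgroup G} [W.Normal] (hU : U.Normal) {u : G}
    (h : ∀ x ∈ U, ⁅⁅x, u⁆, u⁆ ∈ W) {j : ℕ} (hj : 2 ≤ j) : iterCommutator U (zpowers u) j ≤ W := by
  induction j, hj using Nat.le_induction with
  | base =>
    set π := QuotientGroup.mk' W
    set F₁ := U ⊓ (centralizer ({π u} : Set (G ⧸ W))).comap π with hF₁
    have hF : ∀ x, x ∈ F₁ ↔ x ∈ U ∧ ⁅x, u⁆ ∈ W := by
      intro x
      rw [hF₁, mem_inf, mem_comap, mem_centralizer_singleton_iff, ← commutatorElement_eq_one_iff_mul_comm,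
        ← map_commutatorElement]
      exact and_congr_right fun _ => QuotientGroup.eq_one_iff _
    have huC : u ∈ (centralizer ({π u} : Set (G ⧸ W))).comap π := by
      rw [mem_comap, mem_centralizer_singleton_iff]
    have huF : u ∈ normalizer (F₁ : Set G) := by
      refine LocalStructure.le_normalizer_inf (L := zpowers u) ?_ ?_ (mem_zpowers u)
      · exact le_top.trans (normalizer_eq_top (H := U)).ge
      · exact (zpowers_le.mpr huC).trans le_normalizer
    have h1 : ⁅U, zpowers u⁆ ≤ F₁ := ConjFun.commutator_zpowers_le_of huF fun x hx =>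
      (hF _).mpr ⟨Subgroup.commutator_le_left U ⊤ (commutator_mem_commutator hx (mem_top u)), h x hx⟩
    exact (commutator_mono h1 le_rfl).trans (ConjFun.commutator_zpowers_le_of
      ((normalizer_eq_top (H := W)).ge (mem_top u)) fun x hx => ((hF x).mp hx).2)
  | succ j _ ih => exact (commutator_mono ih le_top).trans (Subgroup.commutator_le_left W ⊤)

variable {S : Sylow p G} {M : Subgroup G} {K : Subgroup G} {r : ℕ} {F : Fin r → Type}
  [∀ i, Field (F i)] [∀ i, Fintype (F i)] (h : Ctx p S M) (d : Data p S K F) (hp : p ≠ 2)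

include h d hp

/-- An element of `S` outside `O_p(G)` which is Engel on the chief factors centralised by `C`. -/
theorem exists_engel (hquad : QuadLocal p S) : ∃ u ∈ (S : Subgroup G), u ∉ pCore p G ∧
    ∀ U W : Subgroup G, IsChiefFactor U W → U ≤ pCore p G →
      ⁅U, centralizer (zQ p G : Set G)⁆ ≤ W → iterCommutator U (zpowers u) (p - 1) ≤ W := by
  classical
  obtain ⟨i, -⟩ : ∃ i : Fin r, True := by
    by_contra hr
    exact h.not_thompson_le fun a ha => h.inf_centralizer.le ⟨PGroup.thompsonSubgroupOf_le _ ha,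
      d.rho_ker ⟨a, thompson_sylow_le d ha⟩ fun j => absurd ⟨j, trivial⟩ hr⟩
  obtain ⟨L, u, hu, huS, huQ, huE, hLN, hEL, hNQ, hquad⟩ := exists_local h d hp hquad i
  haveI := bN_normal h d
  haveI := d.K_normal
  haveI : (pCore p G).Normal := PCore.pCore_normal
  haveI : (centralizer (zQ p G : Set G)).Normal := Subgroup.normal_centralizer
  set C := centralizer (zQ p G : Set G)
  set N := bN p S K
  refine ⟨u, huS, huQ, fun U W hch hU hUC => ?_⟩
  have hUn := hch.2.1
  haveI := hUn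
  haveI := hch.2.2.1
  refine iterCommutator_le_of_quadratic hUn ?_ (by
    have h2 := (Fact.out : p.Prime).two_le
    omega)
  rcases hch.2.2.2 ((U ⊓ N) ⊔ W) inferInstance le_sup_right (sup_le inf_le_left hch.1.le) with e | e
  · intro x hx
    have h1 : ⁅x, u⁆ ∈ W := e.le (mem_sup_left (mem_inf.mpr
      ⟨Subgroup.commutator_le_left U ⊤ (commutator_mem_commutator hx (mem_top u)),
        Subgroup.commutator_le_right ⊤ N (commutator_mem_commutator (mem_top x) (hLN hu))⟩))
    exact Subgroup.commutator_le_left W ⊤ (commutator_mem_commutator h1 (mem_top u))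
  set π := QuotientGroup.mk' W
  have hW : ∀ g : G, π g = 1 ↔ g ∈ W := QuotientGroup.eq_one_iff
  -- the chief factor is abelian
  have hab : ∀ a ∈ U.map π, ∀ b ∈ U.map π, a * b = b * a := by
    have hder : ⁅U, U⁆ ≤ W := by
      rcases hch.2.2.2 (⁅U, U⁆ ⊔ W) inferInstance le_sup_right
        (sup_le (Subgroup.commutator_le_self U) hch.1.le) with e' | e'
      · exact le_sup_left.trans e'.le
      · exfalso
        have hp' : IsPGroup p ↥(U.map π) := ((PCore.isPGroup_pCore).to_le hU).map π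
        haveI : Group.IsNilpotent ↥(U.map π) := hp'.isNilpotent
        have hd' : ⁅U.map π, U.map π⁆ = U.map π := by
          rw [← Subgroup.map_commutator]
          conv_rhs => rw [← e', Subgroup.map_sup]
          rw [(Subgroup.map_eq_bot_iff W).mpr (QuotientGroup.ker_mk' W).ge, sup_bot_eq]
        obtain ⟨n, hn⟩ := (Subgroup.isNilpotent_iff_lowerCentralSeries (S := U.map π)).mp inferInstance
        have hall : ∀ j, (U.map π).lowerCentralSeries j = U.map π := by
          intro j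
          induction j with
          | zero => rfl
          | succ j ih =>
            refine Eq.trans ?_ hd'
            rw [Subgroup.lowerCentralSeries_succ, ih]
        rw [hall, Subgroup.map_eq_bot_iff, QuotientGroup.ker_mk'] at hn
        exact hch.1.not_ge hn
    rintro _ ⟨a, ha, rfl⟩ _ ⟨b, hb, rfl⟩
    rw [← commutatorElement_eq_one_iff_mul_comm, ← map_commutatorElement, hW]
    exact hder (commutator_mem_commutator ha hb)
  -- commutation with `u` is multiplicative on it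
  have hmul : ∀ a ∈ U, ∀ b ∈ U, π ⁅a * b, u⁆ = π ⁅a, u⁆ * π ⁅b, u⁆ := by
    intro a ha b hb
    have hc : ∀ x ∈ U, ⁅x, u⁆ ∈ U := fun x hx =>
      Subgroup.commutator_le_left U ⊤ (commutator_mem_commutator hx (mem_top u))
    rw [show ⁅a * b, u⁆ = a * ⁅b, u⁆ * a⁻¹ * ⁅a, u⁆ by simp only [commutatorElement_def]; group, map_mul,
      map_mul, map_mul, map_inv, hab _ (mem_map_of_mem π ha) _ (mem_map_of_mem π (hc b hb)),
      mul_inv_cancel_right, hab _ (mem_map_of_mem π (hc b hb)) _ (mem_map_of_mem π (hc a ha))]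
  let Z₂ : Subgroup G :=
    { carrier := {x | x ∈ U ∧ π ⁅⁅x, u⁆, u⁆ = 1}
      one_mem' := ⟨one_mem _, by simp⟩
      mul_mem' := fun {a b} ha hb => by
        refine ⟨mul_mem ha.1 hb.1, ?_⟩
        have hc : ∀ x ∈ U, ⁅x, u⁆ ∈ U := fun x hx =>
          Subgroup.commutator_le_left U ⊤ (commutator_mem_commutator hx (mem_top u))
        rw [map_commutatorElement, hmul a ha.1 b hb.1, ← map_mul, ← map_commutatorElement,
          hmul _ (hc a ha.1) _ (hc b hb.1), ha.2, hb.2, one_mul]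
      inv_mem' := fun {a} ha => by
        refine ⟨inv_mem ha.1, ?_⟩
        have hc : ∀ x ∈ U, ⁅x, u⁆ ∈ U := fun x hx =>
          Subgroup.commutator_le_left U ⊤ (commutator_mem_commutator hx (mem_top u))
        have h1 : π ⁅a⁻¹, u⁆ * π ⁅a, u⁆ = 1 := by
          rw [← hmul _ (inv_mem ha.1) a ha.1, inv_mul_cancel, commutatorElement_one_left, map_one]
        rw [map_commutatorElement, eq_inv_of_mul_eq_one_left h1, ← map_inv, ← map_commutatorElement]
        have h2 : π ⁅⁅a, u⁆⁻¹, u⁆ * π ⁅⁅a, u⁆, u⁆ = 1 := by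
          rw [← hmul _ (inv_mem (hc a ha.1)) _ (hc a ha.1), inv_mul_cancel, commutatorElement_one_left,
            map_one]
        rwa [ha.2, mul_one] at h2 }
  suffices hZ : U ≤ Z₂ from fun x hx => (hW _).mp (hZ hx).2
  -- minimal subgroups invariant under the block
  have htop : U ≤ sSup {R | ConjFun.IsMinInv U W (⊤ : Subgroup G) R} := by
    refine le_sSup ⟨hch.1, le_rfl, le_top.trans (normalizer_eq_top (H := U)).ge, fun R' h1 h2 h3 => ?_⟩
    exact hch.2.2.2 R' (normalizer_eq_top_iff.mp (top_le_iff.mp h3)) h1 h2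
  refine (ConjFun.le_sSup_minInv_step hUn hch.2.2.1 (d.E_le i) (d.norm_E i)
    (ConjFun.le_sSup_minInv_step hUn hch.2.2.1 le_top (normalizer_eq_top (H := K)).ge htop)).trans
    (sSup_le fun R hR => ?_)
  obtain ⟨hWR, hRU, hRn, hRmin⟩ := hR
  have hCn : ∀ X : Subgroup G, W ≤ X → X ≤ U → C ≤ normalizer (X : Set G) := by
    intro X h1 h2 c hc
    have hkey : ∀ x ∈ X, ∀ y ∈ C, y * x * y⁻¹ ∈ X := by
      intro x hx y hy
      have hw : ⁅x, y⁆⁻¹ ∈ W := inv_mem (hUC (commutator_mem_commutator (h2 hx) hy))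
      rw [show y * x * y⁻¹ = ⁅x, y⁆⁻¹ * x by simp only [commutatorElement_def]; group]
      exact mul_mem (h1 hw) hx
    refine mem_normalizer_iff.mpr fun x => ⟨fun hx => hkey x hx c hc, fun hx => ?_⟩
    have := hkey _ hx c⁻¹ (inv_mem hc)
    simpa [mul_assoc] using this
  obtain ⟨Z, hZ⟩ := (Set.toFinite {Z : Subgroup G | W ≤ Z ∧ Z ≤ U ∧
    L ≤ normalizer (Z : Set G) ∧ R ⊓ Z ≤ W}).exists_maximal
    ⟨W, le_rfl, hch.1.le, le_top.trans (normalizer_eq_top (H := W)).ge, inf_le_right⟩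
  obtain ⟨hWZ, hZU, hZn, hRZ⟩ := hZ.prop
  have hZU' : Z < U := lt_of_le_of_ne hZU fun e' => hWR.not_ge (by
    rw [e', inf_eq_left.mpr hRU] at hRZ; exact hRZ)
  obtain ⟨Z', hZ'⟩ := (Set.toFinite {X : Subgroup G | Z < X ∧ X ≤ U ∧
    L ≤ normalizer (X : Set G)}).exists_minimal ⟨U, hZU', le_rfl, le_top.trans (normalizer_eq_top (H := U)).ge⟩
  obtain ⟨hZZ', hZ'U, hZ'n⟩ := hZ'.prop
  have hWZ' : W ≤ Z' := hWZ.trans hZZ'.le
  have hRZ' : R ≤ Z' := by
    rcases hRmin (R ⊓ Z') (le_inf hWR.le hWZ') inf_le_left (LocalStructure.le_normalizer_inf hRn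
      (hEL.trans (sup_le hZ'n (hCn Z' hWZ' hZ'U)))) with e' | e'
    · exact absurd (hZ.le_of_ge ⟨hWZ', hZ'U, hZ'n, e'.le⟩ hZZ'.le) hZZ'.not_ge
    · exact inf_eq_left.mp e'
  -- the chief factor of `L`
  have hin : ∀ X : Subgroup G, X ≤ U → X ⊓ N ≤ L := fun X hX => le_trans
    (le_inf inf_le_right (inf_le_left.trans (hX.trans hU))) hNQ
  have hLnN : ∀ X : Subgroup G, L ≤ normalizer (X : Set G) → L ≤ normalizer ((X ⊓ N : Subgroup G) : Set G) :=
    fun X hX => LocalStructure.le_normalizer_inf hX (le_top.trans (normalizer_eq_top (H := N)).ge)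
  have hnormal : ∀ X : Subgroup G, X ≤ U → L ≤ normalizer (X : Set G) → ((X ⊓ N).subgroupOf L).Normal :=
    fun X hXU hX => (normal_subgroupOf_iff_le_normalizer (hin X hXU)).mpr (hLnN X hX)
  set U₁ := (Z' ⊓ N).subgroupOf L
  set W₁ := (Z ⊓ N).subgroupOf L
  have hsplit : ∀ z ∈ Z', ∃ n ∈ Z' ⊓ N, ∃ w ∈ W, n * w = z := by
    intro z hz
    obtain ⟨n, hn, w, hw, rfl⟩ := Subgroup.mem_sup_of_normal_right.mp (e.ge (hZ'U hz))
    refine ⟨n, mem_inf.mpr ⟨?_, hn.2⟩, w, hw, rfl⟩
    simpa using mul_mem hz (inv_mem (hWZ' hw))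
  have hchL : IsChiefFactor U₁ W₁ := by
    refine ⟨lt_of_le_of_ne (comap_mono (inf_le_inf_right _ hZZ'.le)) fun e' => hZZ'.not_ge fun z hz => ?_,
      hnormal Z' hZ'U hZ'n, hnormal Z hZU hZn, fun X hX hWX hXU => ?_⟩
    · obtain ⟨n, hn, w, hw, rfl⟩ := hsplit z hz
      have hn' : (⟨n, hin Z' hZ'U hn⟩ : ↥L) ∈ W₁ := e'.ge (mem_subgroupOf.mpr hn)
      exact mul_mem (mem_subgroupOf.mp hn').1 (hWZ hw)
    · set X₀ := X.map L.subtype
      have hX₀ : X₀ ≤ Z' ⊓ N := map_le_iff_le_comap.mpr hXU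
      have hX₀n : L ≤ normalizer ((X₀ ⊔ Z : Subgroup G) : Set G) := by
        refine LocalStructure.le_normalizer_sup (fun l hl => ?_) hZn
        exact le_normalizer_map L.subtype (mem_map_of_mem L.subtype
          ((normalizer_eq_top_iff.mpr hX).ge (mem_top (⟨l, hl⟩ : ↥L))))
      have hle : X₀ ⊔ Z ≤ Z' := sup_le (hX₀.trans inf_le_left) hZZ'.le
      rcases eq_or_lt_of_le (le_sup_right : Z ≤ X₀ ⊔ Z) with e' | e'
      · refine Or.inl (le_antisymm (fun x hx => mem_subgroupOf.mpr (mem_inf.mpr ⟨?_, ?_⟩)) hWX)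
        · exact e'.ge (mem_sup_left (mem_map_of_mem L.subtype hx))
        · exact (hX₀ (mem_map_of_mem L.subtype hx)).2
      · have heq : X₀ ⊔ Z = Z' := le_antisymm hle (hZ'.le_of_le ⟨e', hle.trans hZ'U, hX₀n⟩ hle)
        refine Or.inr (le_antisymm hXU fun n hn => ?_)
        have hn' := mem_subgroupOf.mp hn
        obtain ⟨x, hx, z, hz, hxz⟩ := (Coprime.mem_sup_iff_of_le_normalizer
          ((map_subtype_le X).trans hZn)).mp (heq.ge hn'.1)
        obtain ⟨x', hx', rfl⟩ := hx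
        have hzN : z ∈ N := by
          have := N.mul_mem (N.inv_mem (mem_inf.mp (hX₀ (mem_map_of_mem L.subtype hx'))).2) (mem_inf.mp hn').2
          rwa [← hxz, inv_mul_cancel_left] at this
        have hz' : (⟨z, hin Z hZU ⟨hz, hzN⟩⟩ : ↥L) ∈ X := hWX (mem_subgroupOf.mpr ⟨hz, hzN⟩)
        have e'' : n = x' * ⟨z, hin Z hZU ⟨hz, hzN⟩⟩ := Subtype.ext hxz.symm
        rw [e'']
        exact mul_mem hx' hz'
  have hU₁Q : U₁ ≤ pCore p ↥L := by
    haveI := hnormal Z' hZ'U hZ'n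
    exact PCore.le_pCore (((PCore.isPGroup_pCore.to_le hU).to_le (inf_le_left.trans hZ'U)).comap_of_injective _
      L.subtype_injective)
  intro x hx
  refine ⟨hRU hx, (hW _).mpr (hRZ (mem_inf.mpr ⟨?_, ?_⟩))⟩
  · have hcl : ∀ a ∈ R, ⁅a, u⁆ ∈ R := fun a ha => by
      rw [commutatorElement_def, show a * u * a⁻¹ * u⁻¹ = a * (u * a⁻¹ * u⁻¹) by group]
      exact mul_mem ha ((mem_normalizer_iff.mp (hRn huE) _).mp (inv_mem ha))
    exact hcl _ (hcl x hx)
  · obtain ⟨n, hn, w, hw, rfl⟩ := hsplit x (hRZ' hx)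
    have h1 := (mem_subgroupOf.mp (hquad U₁ W₁ hchL hU₁Q ⟨n, hin Z' hZ'U hn⟩ (mem_subgroupOf.mpr hn))).1
    have e1 : π ⁅⁅n * w, u⁆, u⁆ = π ⁅⁅n, u⁆, u⁆ := by
      simp only [map_commutatorElement, map_mul, (hW w).mpr hw, mul_one]
    have h2 : ⁅⁅n, u⁆, u⁆⁻¹ * ⁅⁅n * w, u⁆, u⁆ ∈ W := by
      rw [← hW, map_mul, map_inv, e1, inv_mul_cancel]
    have h3 : ⁅⁅n, u⁆, u⁆ ∈ Z := h1
    have h4 := mul_mem h3 (hWZ h2)
    rwa [mul_inv_cancel_left] at h4

end Cfsg.Agent.GlaubermanTransfer
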