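import Cfsg.Agent.Lib.GlaubermanTransfer.Context
import Cfsg.Agent.Lib.PushingUp.Common
import Cfsg.Agent.Lib.PushingUp.SL2Overgroups
import Cfsg.Agent.Lib.ConjFun.Chief

/-!
# Fixed points of `S ∩ K` on `V`

* `exists_moved`: `J(S)` moves every block
* `commute_of_fixed`: `S ∩ K` centralises `C_V(J(S))`
* `mem_K_of_centralizes`: what centralises `C_V(S ∩ K)` in `S` lies in `K`
-/

set_option autoImplicit false

namespace Cfsg.Agent.GlaubermanTransfer

open Subgroup
open scoped commutatorElement MatrixGroups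

universe u

variable {G : Type u} [Group G] [Finite G] {p : ℕ} [Fact p.Prime] {S : Sylow p G} {M : Subgroup G}
  {K : Subgroup G} {r : ℕ} {F : Fin r → Type} [∀ i, Field (F i)] [∀ i, Fintype (F i)]
  (h : Ctx p S M) (d : Data p S K F)

local notation "V" => zQ p G
local notation "C" => centralizer (zQ p G : Set G)
local notation "J" => thompsonSubgroupOf p (S : Subgroup G)

include d

omit h in
theorem thompson_sylow_le : J ≤ K :=
  (Offender.thompsonSubgroupOf_sylow_le S).trans d.thompson_le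

omit h in
theorem mulVec_uni {R : Type} [Field R] (a : R) (x : Fin 2 → R) :
    ((NaturalSL2.uni a : SL(2, R)) : Matrix (Fin 2) (Fin 2) R).mulVec x = ![x 0 + a * x 1, x 1] := by
  ext i
  fin_cases i <;> simp [NaturalSL2.uni, Matrix.mulVec, dotProduct, Fin.sum_univ_two]

omit h in
theorem rho_S_eq {i : Fin r} {k : ↥K} (hk : (k : G) ∈ (S : Subgroup G)) :
    ∃ a : F i, d.ρ i k = NaturalSL2.uni a :=
  ⟨_, Subtype.ext (NaturalSL2.apply_of_mem_upperUni (d.rho_S i k hk))⟩

omit h in
/-- A commutator witness for a nontrivial component. -/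
theorem exists_witness {i : Fin r} {a : ↥K} (ha : (a : G) ∈ (S : Subgroup G)) (hne : d.ρ i a ≠ 1) :
    ∃ e : ↥K, (e : G) ∈ d.E i ∧ ⁅(a : G), (e : G)⁆ ∉ C := by
  obtain ⟨b, hb⟩ := rho_S_eq d (i := i) ha
  have hb0 : b ≠ 0 := fun e => hne (by rw [hb, e]; exact Subtype.ext (by simp [NaturalSL2.uni, Matrix.one_fin_two]))
  obtain ⟨e, he, hee⟩ := d.rho_surj i (PushingUp.low 1)
  refine ⟨e, he, fun hc => hb0 ?_⟩
  have h1 : d.ρ i ⁅a, e⁆ = 1 := d.rho_of_centralizes (k := ⁅a, e⁆) hc
  rw [map_commutatorElement, commutatorElement_eq_one_iff_mul_comm, hb, hee] at h1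
  have h2 := congrArg (fun A : SL(2, F i) => (A : Matrix (Fin 2) (Fin 2) (F i)) 0 0) h1
  simp only [Matrix.SpecialLinearGroup.coe_mul] at h2
  simpa [NaturalSL2.uni, PushingUp.low] using h2

include h

theorem exists_moved (i : Fin r) : ∃ a : ↥K, (a : G) ∈ J ∧ d.ρ i a ≠ 1 := by
  obtain ⟨i₀, a, haJ, hne⟩ : ∃ (i₀ : Fin r) (a : ↥K), (a : G) ∈ J ∧ d.ρ i₀ a ≠ 1 := by
    by_contra hc
    simp only [not_exists, not_and, not_not] at hc
    exact h.not_thompson_le fun a ha => h.inf_centralizer.le ⟨PGroup.thompsonSubgroupOf_le _ ha,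
      d.rho_ker ⟨a, thompson_sylow_le d ha⟩ fun j => hc j _ ha⟩
  obtain ⟨e, he, hae⟩ := exists_witness d (PGroup.thompsonSubgroupOf_le _ haJ) hne
  obtain ⟨s, hs, hse⟩ := d.conj_E i₀ i
  haveI := d.K_normal
  have hsa : s * a * s⁻¹ ∈ J :=
    (mem_normalizer_iff.mp (PGroup.normalizer_le_normalizer_thompsonOf _ (le_normalizer hs)) _).mp haJ
  refine ⟨⟨s * a * s⁻¹, thompson_sylow_le d hsa⟩, hsa, fun h1 => hae ?_⟩
  let e' : ↥K := ⟨s * e * s⁻¹, d.K_normal.conj_mem _ e.2 s⟩
  have he' : (e' : G) ∈ d.E i := by rw [← hse]; exact ⟨e, he, rfl⟩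
  have hC : ((⁅(⟨s * a * s⁻¹, thompson_sylow_le d hsa⟩ : ↥K), e'⁆ : ↥K) : G) ∈ C := by
    refine d.rho_ker _ fun j => ?_
    rw [map_commutatorElement]
    rcases eq_or_ne j i with rfl | hj
    · rw [h1, commutatorElement_one_left]
    · rw [d.rho_other i j hj e' he', commutatorElement_one_right]
  have := (Subgroup.normal_centralizer (H := V)).conj_mem _ hC s⁻¹
  have e1 : s⁻¹ * ⁅s * (a : G) * s⁻¹, s * (e : G) * s⁻¹⁆ * s⁻¹⁻¹ = ⁅(a : G), (e : G)⁆ := by
    rw [commutatorElement_def, commutatorElement_def]; group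
  rw [← e1]
  exact this

/-- Points of `V` fixed by `J(S)` have second coordinates zero. -/
theorem chi_snd_eq_zero {v : ↥V} (hv : ∀ a ∈ J, a * (v : G) = v * a) (i : Fin r) :
    Multiplicative.toAdd (d.χ i v) 1 = 0 := by
  obtain ⟨a, haJ, hne⟩ := exists_moved h d i
  obtain ⟨b, hb⟩ := rho_S_eq d (i := i) (PGroup.thompsonSubgroupOf_le _ haJ)
  have hb0 : b ≠ 0 := fun e => hne (by rw [hb, e]; exact Subtype.ext (by simp [NaturalSL2.uni, Matrix.one_fin_two]))
  have h1 := d.equiv i a v
  rw [cV_eq_self_iff.mpr (hv a haJ), hb, mulVec_uni d] at h1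
  have := congrFun h1 0
  simpa [hb0] using this

theorem commute_of_fixed (hp : p ≠ 2) {v : ↥V} (hv : ∀ a ∈ J, a * (v : G) = v * a) {k : ↥K}
    (hk : (k : G) ∈ (S : Subgroup G)) : (k : G) * v = v * k := by
  refine d.commute_of_chi_eq hp fun i => Multiplicative.toAdd.injective ?_
  obtain ⟨b, hb⟩ := rho_S_eq d (i := i) hk
  rw [d.equiv, hb, mulVec_uni d, chi_snd_eq_zero h d hv i]
  have := chi_snd_eq_zero h d hv i
  ext j
  fin_cases j <;> simp [this]

omit h in
/-- If `Φ` vanishes on the single points of the other blocks it factors through `χ i`. -/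
theorem hom_eq_one_of_chi (i : Fin r) {A : Type} [CommGroup A] (Φ : ↥V →* A)
    (h0 : ∀ v : ↥V, (v : G) ∈ centralizer (K : Set G) → Φ v = 1)
    (h1 : ∀ k, k ≠ i → ∀ v : ↥V, (∀ j, j ≠ k → d.χ j v = 1) → Φ v = 1) {v : ↥V}
    (hv : d.χ i v = 1) : Φ v = 1 := by
  classical
  suffices H : ∀ (s : Finset (Fin r)) (v : ↥V), (∀ k ∉ s, d.χ k v = 1) → d.χ i v = 1 → Φ v = 1 from
    H Finset.univ v (fun k hk => absurd (Finset.mem_univ k) hk) hv
  intro s
  induction s using Finset.induction with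
  | empty => exact fun v hv _ => h0 v (d.chi_ker v fun k => hv k (Finset.notMem_empty k))
  | @insert a s ha ih =>
    intro v hvs hvi
    by_cases hai : a = i
    · exact ih v (fun k hk => if e : k = a then by rw [e, hai]; exact hvi
        else hvs k (fun hc => (Finset.mem_insert.mp hc).elim e hk)) hvi
    obtain ⟨w, hw⟩ := d.chi_surj (Function.update (fun _ => 0) a (Multiplicative.toAdd (d.χ a v)))
    have hwo : ∀ j, j ≠ a → d.χ j w = 1 := fun j hj => Multiplicative.toAdd.injective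
      (by rw [hw j, Function.update_of_ne hj]; rfl)
    have hwa : d.χ a w = d.χ a v := Multiplicative.toAdd.injective (by rw [hw a, Function.update_self])
    have h3 : Φ (v * w⁻¹) = 1 := by
      refine ih _ (fun k hk => ?_) (by rw [map_mul, map_inv, hvi, hwo i (Ne.symm hai), inv_one, mul_one])
      rcases eq_or_ne k a with rfl | hka
      · rw [map_mul, map_inv, hwa, mul_inv_cancel]
      · rw [map_mul, map_inv, hwo k hka, hvs k (fun hc => (Finset.mem_insert.mp hc).elim hka hk),
          inv_one, mul_one]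
    rwa [map_mul, map_inv, h1 a hai w hwo, inv_one, mul_one] at h3

omit h in
/-- An element of `S` centralising `C_V(S ∩ K)` is an upper triangular map on each block. -/
theorem exists_triangular {s : G} (hs : s ∈ (S : Subgroup G))
    (hfix : ∀ v : ↥V, (∀ k : ↥K, (k : G) ∈ (S : Subgroup G) → (k : G) * v = v * k) → s * v = v * s)
    (hp : p ≠ 2) (i : Fin r) : ∃ b c : F i, ∀ v : ↥V, Multiplicative.toAdd (d.χ i (cV s v)) =
      ![Multiplicative.toAdd (d.χ i v) 0 + b * Multiplicative.toAdd (d.χ i v) 1,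
        c * Multiplicative.toAdd (d.χ i v) 1] := by
  classical
  haveI := d.K_normal
  let Φ : ↥V →* Multiplicative (Fin 2 → F i) :=
    { toFun := fun v => d.χ i (cV s v)
      map_one' := by rw [show cV s (1 : ↥V) = 1 from Subtype.ext (by simp), map_one]
      map_mul' := fun v w => by
        rw [← map_mul]; congr 1; exact Subtype.ext (by simp [mul_assoc]) }
  have hline : ∀ v : ↥V, (∀ j, Multiplicative.toAdd (d.χ j v) 1 = 0) → Φ v = d.χ i v := by
    intro v hv
    show d.χ i (cV s v) = _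
    rw [cV_eq_self_iff.mpr (hfix v fun k hk => d.commute_of_chi_eq hp fun j => ?_)]
    obtain ⟨a, ha⟩ := rho_S_eq d (i := j) hk
    apply Multiplicative.toAdd.injective
    rw [d.equiv, ha, mulVec_uni d]
    ext l
    fin_cases l <;> simp [hv j]
  have hconj : ∀ (e : ↥K) (v : ↥V), Multiplicative.toAdd (Φ (cV (e : G) v)) =
      ((d.ρ i ⟨s * e * s⁻¹, d.K_normal.conj_mem _ e.2 s⟩ : SL(2, F i)) :
        Matrix (Fin 2) (Fin 2) (F i)).mulVec (Multiplicative.toAdd (Φ v)) := by
    intro e v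
    show Multiplicative.toAdd (d.χ i (cV s (cV (e : G) v))) = _
    rw [show cV s (cV (e : G) v) = cV (s * e * s⁻¹) (cV s v) from Subtype.ext (by simp [mul_assoc])]
    exact d.equiv i ⟨s * e * s⁻¹, _⟩ (cV s v)
  have hfac : ∀ v : ↥V, d.χ i v = 1 → Φ v = 1 := by
    intro v hv
    refine hom_eq_one_of_chi d i Φ (fun w hw => ?_) (fun k hki w hw => ?_) hv
    · rw [hline w fun j => by rw [d.chi_fixed j w hw]; rfl]
      exact d.chi_fixed i w hw
    · -- on the block `k` the kernel is invariant under `SL₂`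
      obtain ⟨w₁, hw₁⟩ := d.chi_surj (Function.update (fun _ => 0) k ![1, 0])
      have hw₁o : ∀ j, j ≠ k → d.χ j w₁ = 1 := fun j hj => Multiplicative.toAdd.injective
        (by rw [hw₁ j, Function.update_of_ne hj]; rfl)
      have hΦ₁ : Φ w₁ = 1 := by
        rw [hline w₁ fun j => ?_, hw₁o i (Ne.symm hki)]
        rcases eq_or_ne j k with rfl | hj
        · rw [hw₁, Function.update_self]; rfl
        · rw [hw₁o j hj]; rfl
      have hcent : ∀ x : ↥V, (∀ j, d.χ j x = 1) → Φ x = 1 := fun x hx => by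
        rw [hline x fun j => by rw [hx j]; rfl]; exact hx i
      by_cases hz : Multiplicative.toAdd (d.χ k w) = 0
      · exact hcent w fun j => if e : j = k then by
          rw [e]; exact Multiplicative.toAdd.injective hz else hw j e
      obtain ⟨A, hA⟩ := PushingUp.exists_sl2_map hz
      obtain ⟨e, he, hek⟩ := d.rho_surj k A
      have h2 : Φ (cV (e : G) w₁) = 1 := Multiplicative.toAdd.injective (by
        rw [hconj, hΦ₁, toAdd_one, Matrix.mulVec_zero])
      have h3 : Φ (w * (cV (e : G) w₁)⁻¹) = 1 := by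
        refine hcent _ fun j => ?_
        apply Multiplicative.toAdd.injective
        rw [map_mul, map_inv, toAdd_mul, toAdd_inv, d.equiv, toAdd_one]
        rcases eq_or_ne j k with rfl | hj
        · rw [hek, hw₁, Function.update_self, hA, add_neg_cancel]
        · rw [hw j hj, hw₁o j hj, toAdd_one, Matrix.mulVec_zero, neg_zero, add_zero]
      rwa [map_mul, map_inv, h2, inv_one, mul_one] at h3
  -- the induced map on the block `i`
  choose sec hsec using fun x : Fin 2 → F i => d.chi_surj (Function.update (fun _ => 0) i x)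
  have hsec' : ∀ x, Multiplicative.toAdd (d.χ i (sec x)) = x := fun x => by
    rw [hsec x i, Function.update_self]
  set f : (Fin 2 → F i) → (Fin 2 → F i) := fun x => Multiplicative.toAdd (Φ (sec x)) with hf
  have hf' : ∀ v : ↥V, Multiplicative.toAdd (Φ v) = f (Multiplicative.toAdd (d.χ i v)) := by
    intro v
    have h3 : Φ (v * (sec (Multiplicative.toAdd (d.χ i v)))⁻¹) = 1 := hfac _
      (Multiplicative.toAdd.injective (by rw [map_mul, map_inv, toAdd_mul, toAdd_inv, hsec', add_neg_cancel]; rfl))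
    rw [map_mul, map_inv, mul_inv_eq_one] at h3
    rw [h3]
  have hadd : ∀ x y, f (x + y) = f x + f y := by
    intro x y
    have h3 := hf' (sec x * sec y)
    simp only [map_mul, toAdd_mul, hsec'] at h3
    exact h3.symm
  have hfe : ∀ x : F i, f ![x, 0] = ![x, 0] := by
    intro x
    obtain ⟨w, hw⟩ := d.chi_surj (Function.update (fun _ => 0) i ![x, 0])
    have h3 := hf' w
    rw [hline w fun j => ?_] at h3
    · rw [hw i, Function.update_self] at h3; exact h3.symm
    · rcases eq_or_ne j i with rfl | hj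
      · rw [hw, Function.update_self]; rfl
      · rw [hw, Function.update_of_ne hj]; rfl
  set g : F i → F i := fun y => f ![0, y] 0 with hg
  set k₀ : F i → F i := fun y => f ![0, y] 1 with hk₀
  have hf2 : ∀ x y : F i, f ![x, y] = ![x + g y, k₀ y] := by
    intro x y
    have h3 : (![x, y] : Fin 2 → F i) = ![x, 0] + ![0, y] := by simp
    rw [h3, hadd, hfe]
    ext l
    fin_cases l <;> simp [hg, hk₀]
  -- conjugates of unipotent elements
  have hu : ∀ a : F i, ∃ a' : F i, ∀ y : F i, a * y = a' * k₀ y := by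
    intro a
    obtain ⟨e, heS, -, hea⟩ := d.rho_S_surj i a
    obtain ⟨a', ha'⟩ := rho_S_eq d (i := i) (k := ⟨s * e * s⁻¹, d.K_normal.conj_mem _ e.2 s⟩)
      (mul_mem (mul_mem hs heS) (inv_mem hs))
    refine ⟨a', fun y => ?_⟩
    have h3 := hconj e (sec ![0, y])
    rw [hf', hf', d.equiv, hea, ha', mulVec_uni d, mulVec_uni d, hsec', hf2 0 y] at h3
    simp only [Matrix.cons_val_zero, Matrix.cons_val_one] at h3
    rw [hf2] at h3
    have := congrFun h3 0
    simp only [Matrix.cons_val_zero] at this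
    linear_combination this
  obtain ⟨a₁, ha₁⟩ := hu 1
  have hc : k₀ 1 ≠ 0 := fun e => one_ne_zero (α := F i) (by simpa [e] using ha₁ 1)
  have hk : ∀ y, k₀ y = k₀ 1 * y := by
    intro y
    have h3 := ha₁ y
    have h4 := ha₁ 1
    rw [one_mul] at h3 h4
    calc k₀ y = k₀ 1 * (a₁ * k₀ y) := by rw [← mul_assoc, mul_comm _ a₁, ← h4, one_mul]
      _ = k₀ 1 * y := by rw [← h3]
  have hglin : ∃ b : F i, ∀ y, g y = b * y := by
    obtain ⟨e, -, hea⟩ := d.rho_surj i (PushingUp.low (1 : F i))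
    refine ⟨((d.ρ i ⟨s * e * s⁻¹, d.K_normal.conj_mem _ e.2 s⟩ : SL(2, F i)) :
      Matrix (Fin 2) (Fin 2) (F i)) 0 0 - 1, fun x => ?_⟩
    have h3 := hconj e (sec ![x, 0])
    rw [hf', hf', d.equiv, hea, hsec', hfe] at h3
    rw [show ((PushingUp.low (1 : F i) : SL(2, F i)) : Matrix (Fin 2) (Fin 2) (F i)).mulVec ![x, 0] =
      ![x, x] by ext l; fin_cases l <;> simp [PushingUp.low, Matrix.mulVec, dotProduct, Fin.sum_univ_two],
      hf2] at h3
    have := congrFun h3 0
    simp [Matrix.mulVec, dotProduct, Fin.sum_univ_two] at this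
    linear_combination this
  obtain ⟨b, hb⟩ := hglin
  refine ⟨b, k₀ 1, fun v => ?_⟩
  have h3 := hf' v
  rw [show Multiplicative.toAdd (d.χ i v) =
    ![Multiplicative.toAdd (d.χ i v) 0, Multiplicative.toAdd (d.χ i v) 1] by
      ext l; fin_cases l <;> rfl, hf2, hb, hk] at h3
  exact h3

/-- What centralises `C_V(S ∩ K)` in `S` lies in `K`. -/
theorem mem_K_of_centralizes (hp : p ≠ 2) {s : G} (hs : s ∈ (S : Subgroup G))
    (hfix : ∀ v : ↥V, (∀ k : ↥K, (k : G) ∈ (S : Subgroup G) → (k : G) * v = v * k) → s * v = v * s) :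
    s ∈ K := by
  classical
  haveI := d.K_normal
  choose b c hbc using fun i => exists_triangular d hs hfix hp i
  have hc1 : ∀ i, c i = 1 := by
    intro i
    have hiter : ∀ (n : ℕ) (v : ↥V), Multiplicative.toAdd (d.χ i (cV (s ^ n) v)) 1 =
        c i ^ n * Multiplicative.toAdd (d.χ i v) 1 := by
      intro n
      induction n with
      | zero => intro v; rw [show cV (s ^ 0) v = v from Subtype.ext (by simp), pow_zero, one_mul]
      | succ n ih =>
        intro v
        rw [pow_succ', cV_mul, hbc]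
        simp [ih, pow_succ']
        ring
    obtain ⟨k, hk⟩ := IsPGroup.iff_orderOf.mp S.2 ⟨s, hs⟩
    rw [Subgroup.orderOf_mk] at hk
    obtain ⟨w, hw⟩ := d.chi_surj (Function.update (fun _ => 0) i ![0, 1])
    have h3 := hiter (p ^ k) w
    rw [← hk, pow_orderOf_eq_one, show cV (1 : G) w = w from Subtype.ext (by simp), hk, hw,
      Function.update_self] at h3
    haveI := d.charP i
    have h4 : (c i - 1) ^ p ^ k = 0 := by
      rw [sub_pow_char_pow, one_pow]
      simpa [sub_eq_zero] using h3.symm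
    exact sub_eq_zero.mp (pow_eq_zero_iff'.mp h4).1
  obtain ⟨e, heS, he⟩ := d.exists_uni b
  set V₀ : Subgroup G := V ⊓ centralizer (K : Set G) with hV₀
  haveI : V₀.Normal := inferInstance
  set K₁ : Subgroup G := centralizer (V₀ : Set G) ⊓ ConjFun.kerOn V V₀ inferInstance with hK₁
  haveI : (ConjFun.kerOn V V₀ inferInstance).Normal := ConjFun.kerOn_normal inferInstance inferInstance
  haveI : K₁.Normal := inferInstance
  have hfix₀ : ∀ v : ↥V, (v : G) ∈ centralizer (K : Set G) → s * (v : G) = v * s := fun v hv =>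
    hfix v fun k _ => hv k k.2
  -- `e⁻¹ s` fixes all coordinates
  have hs' : (e : G)⁻¹ * s ∈ K₁ := by
    refine mem_inf.mpr ⟨fun v hv => ?_, fun v hv => mem_inf.mpr ⟨?_, ?_⟩⟩
    · refine (Commute.mul_left (Commute.inv_left ?_) ?_).eq.symm
      · exact hv.2 e e.2
      · exact hfix₀ ⟨v, hv.1⟩ hv.2
    · exact Subgroup.commutator_le_left V ⊤ (commutator_mem_commutator hv (mem_top _))
    · set v' : ↥V := ⟨v, hv⟩
      have h4 : ∀ i, d.χ i (v' * (cV ((e : G)⁻¹ * s) v')⁻¹) = 1 := by
        intro i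
        have e1 : cV ((e : G)⁻¹ * s) v' = cV ((e⁻¹ : ↥K) : G) (cV s v') := cV_mul _ _ _
        rw [map_mul, map_inv, mul_inv_eq_one, e1]
        apply Multiplicative.toAdd.injective
        rw [d.equiv, map_inv, he, hbc, hc1 i, Matrix.SpecialLinearGroup.coe_inv, Matrix.adjugate_fin_two]
        ext l
        fin_cases l <;>
          simp [NaturalSL2.uni, Matrix.SpecialLinearGroup.coe_inv, Matrix.adjugate_fin_two,
            Matrix.mulVec, dotProduct, Fin.sum_univ_two] <;> ring
      have := d.chi_ker _ h4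
      have e2 : ((v' * (cV ((e : G)⁻¹ * s) v')⁻¹ : ↥V) : G) = ⁅v, (e : G)⁻¹ * s⁆ := by
        simp [v', commutatorElement_def, mul_assoc]
      rwa [e2] at this
  have hK₁M : K₁ ≤ M := by
    by_contra hc
    obtain ⟨t, htJ, ⟨m, htm⟩, ht⟩ := d.exists_neg hp
    obtain ⟨k, hk, σ, hσ, hkσ⟩ := Subgroup.mem_sup_of_normal_left.mp
      ((h.sup_eq_top hc).ge (mem_top (t : G)))
    have e1 : QuotientGroup.mk' K₁ (t : G) = QuotientGroup.mk' K₁ σ := by
      rw [← hkσ, map_mul, show QuotientGroup.mk' K₁ k = 1 from (QuotientGroup.eq_one_iff k).mpr hk, one_mul]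
    obtain ⟨n, hn⟩ := IsPGroup.iff_orderOf.mp S.2 ⟨σ, hσ⟩
    rw [Subgroup.orderOf_mk] at hn
    have h5 : orderOf (QuotientGroup.mk' K₁ (t : G)) = 1 := by
      refine Nat.eq_one_of_dvd_coprimes (a := 2 ^ m) (b := p ^ n) ?_
        ((orderOf_map_dvd _ _).trans htm) (e1 ▸ (orderOf_map_dvd _ _).trans hn.dvd)
      exact ((Nat.coprime_primes Nat.prime_two Fact.out).mpr (Ne.symm hp)).pow _ _
    have h6 : (t : G) ∈ K₁ := (QuotientGroup.eq_one_iff _).mp (orderOf_eq_one_iff.mp h5)
    obtain ⟨i, -⟩ : ∃ i : Fin r, True := by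
      by_contra hr
      exact h.not_thompson_le fun a ha => h.inf_centralizer.le ⟨PGroup.thompsonSubgroupOf_le _ ha,
        d.rho_ker ⟨a, thompson_sylow_le d ha⟩ fun j => absurd ⟨j, trivial⟩ hr⟩
    obtain ⟨w, hw⟩ := d.chi_surj (Function.update (fun _ => 0) i ![1, 0])
    have h7 : ⁅(w : G), (t : G)⁆ ∈ V₀ := h6.2 w w.2
    have h8 := d.cV_neg_eq ht hp (v := w) (by
      have e2 : ((w * (cV (t : G) w)⁻¹ : ↥V) : G) = ⁅(w : G), (t : G)⁆ := by
        simp [commutatorElement_def, mul_assoc]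
      rw [e2]
      exact h7.2)
    have h9 := d.equiv i t w
    rw [h8, ht, hw, Function.update_self] at h9
    have h10 := congrFun h9 0
    haveI := d.charP i
    simp [Matrix.neg_mulVec] at h10
    have h11 : ((2 : ℕ) : F i) = 0 := by push_cast; linear_combination h10
    exact hp ((Nat.prime_dvd_prime_iff_eq Fact.out Nat.prime_two).mp
      ((CharP.cast_eq_zero_iff (F i) p 2).mp h11))
  have h3 : (e : G)⁻¹ * s ∈ pCore p G :=
    h.inf_le_pCore hK₁M (mem_inf.mpr ⟨Subgroup.mul_mem _ (Subgroup.inv_mem _ heS) hs, hs'⟩)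
  have := mul_mem e.2 (d.centralizer_le (pCore_le_centralizer_zQ h3))
  rwa [mul_inv_cancel_left] at this

end Cfsg.Agent.GlaubermanTransfer
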