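import Cfsg.Agent.Lib.GlaubermanTransfer.Baumann
import Cfsg.Agent.Lib.PushingUp.Main

/-!
# The local subgroup of one block

* `quadratic_of_natural`: `p`-elements act quadratically on natural modules
* `exists_local`: for each block a subgroup `L ≤ N` with `E i ≤ L C` on whose chief factors below `O_p(L)`
  some `u ∈ S \ O_p(G)` acts quadratically
-/

set_option autoImplicit false

namespace Cfsg.Agent.GlaubermanTransfer

open Subgroup
open scoped commutatorElement MatrixGroups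

universe u

section Quadratic

theorem sq_eq_zero_of_pow_eq_zero {R : Type*} [Field R] {A : Matrix (Fin 2) (Fin 2) R} {n : ℕ}
    (h : A ^ n = 0) : A * A = 0 := by
  have hdet : A.det = 0 := by
    rcases n with - | n
    · exact absurd h one_ne_zero
    · have := congrArg Matrix.det h
      rw [Matrix.det_pow, Matrix.det_zero] at this
      exact eq_zero_of_pow_eq_zero this
  rw [Matrix.det_fin_two] at hdet
  have hsq : A * A = A.trace • A := by
    ext i j
    fin_cases i <;> fin_cases j <;>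
      simp [Matrix.mul_apply, Fin.sum_univ_two, Matrix.trace_fin_two] <;>
      (first | linear_combination hdet | linear_combination -hdet | ring)
  have hpow : ∀ k : ℕ, A ^ (k + 1) = A.trace ^ k • A := by
    intro k
    induction k with
    | zero => simp
    | succ k ih => rw [pow_succ, ih, Matrix.smul_mul, hsq, smul_smul, pow_succ]
  rcases n with - | n
  · exact absurd h one_ne_zero
  rw [hpow] at h
  rcases smul_eq_zero.mp h with h1 | h1
  · rw [hsq, eq_zero_of_pow_eq_zero h1, zero_smul]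
  · rw [h1, mul_zero]

variable {H : Type*} [Group H] {p : ℕ} [Fact p.Prime] {F : Type*} [Field F] [CharP F p]

/-- `p`-elements act quadratically on a natural module. -/
theorem quadratic_of_natural {U W : Subgroup H} [W.Normal]
    (hnat : IsNaturalSL2Module F (U.map (QuotientGroup.mk' W)) (⊤ : Subgroup (H ⧸ W))) {u : H} {k : ℕ}
    (hu : u ^ p ^ k = 1) {x : H} (hx : x ∈ U) : ⁅⁅x, u⁆, u⁆ ∈ W := by
  set π := QuotientGroup.mk' W
  obtain ⟨-, ρ, ψ, -, -, hact⟩ := hnat
  let g : ↥(⊤ : Subgroup (H ⧸ W)) := ⟨π u, mem_top _⟩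
  set A : Matrix (Fin 2) (Fin 2) F := ((ρ g : SL(2, F)) : Matrix (Fin 2) (Fin 2) F) with hA
  have hApow : A ^ p ^ k = 1 := by
    have h1 : g ^ p ^ k = 1 := Subtype.ext (show π u ^ p ^ k = 1 by rw [← map_pow, hu, map_one])
    rw [hA, ← Matrix.SpecialLinearGroup.coe_pow, ← map_pow, h1, map_one, Matrix.SpecialLinearGroup.coe_one]
  have hsq : (1 - A) * (1 - A) = 0 := by
    refine sq_eq_zero_of_pow_eq_zero (n := p ^ k) ?_
    rw [sub_pow_char_pow_of_commute (p := p) (n := k) (h := Commute.one_left A), one_pow, hApow, sub_self]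
  have step : ∀ v : ↥(U.map π), ∃ w : ↥(U.map π), (w : H ⧸ W) = ⁅(v : H ⧸ W), π u⁆ ∧
      ψ (Additive.ofMul w) = (1 - A).mulVec (ψ (Additive.ofMul v)) := by
    intro v
    obtain ⟨w, hw, hwe⟩ := hact g v
    refine ⟨v * w⁻¹, ?_, ?_⟩
    · rw [Subgroup.coe_mul, Subgroup.coe_inv, hw, commutatorElement_def]
      simp only [g]
      group
    · rw [ofMul_mul, ofMul_inv, map_add, map_neg, hwe, Matrix.sub_mulVec, Matrix.one_mulVec, sub_eq_add_neg]
  obtain ⟨w₁, h₁, e₁⟩ := step ⟨π x, mem_map_of_mem π hx⟩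
  obtain ⟨w₂, h₂, e₂⟩ := step w₁
  rw [e₁, Matrix.mulVec_mulVec, hsq, Matrix.zero_mulVec, map_eq_zero_iff ψ ψ.injective] at e₂
  have h3 : w₂ = 1 := e₂
  rw [h₁, h3, Subgroup.coe_one, ← map_commutatorElement, ← map_commutatorElement] at h₂
  exact (QuotientGroup.eq_one_iff _).mp h₂.symm

end Quadratic

section Char

variable {G : Type u} [Group G]

theorem characteristic_map_equiv {H H' : Type*} [Group H] [Group H'] (e : H ≃* H') (T : Subgroup H)
    [hT : T.Characteristic] : (T.map e.toMonoidHom).Characteristic := by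
  rw [characteristic_iff_map_eq]
  intro φ
  have h1 := congrArg (Subgroup.map e.toMonoidHom)
    (characteristic_iff_map_eq.mp hT ((e.trans φ).trans e.symm))
  rw [Subgroup.map_map] at h1 ⊢
  refine Eq.trans ?_ h1
  congr 1
  exact MonoidHom.ext fun x => by simp

/-- A characteristic subgroup of a copy of a characteristic subgroup is characteristic. -/
theorem exists_char_of_eq {S L : Subgroup G} {BL : Subgroup ↥L} {B' : Subgroup ↥S} [B'.Characteristic]
    (h : BL.map L.subtype = B'.map S.subtype) (T₀ : Subgroup ↥BL) [T₀.Characteristic] :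
    ∃ T₁ : Subgroup ↥S, T₁.Characteristic ∧ T₁.map S.subtype = (T₀.map BL.subtype).map L.subtype := by
  let e : ↥BL ≃* ↥B' := ((BL.equivMapOfInjective L.subtype L.subtype_injective).trans
    (MulEquiv.subgroupCongr h)).trans (B'.equivMapOfInjective S.subtype S.subtype_injective).symm
  have he : ∀ x : ↥BL, (((e x : ↥B') : ↥S) : G) = ((x : ↥L) : G) := by
    intro x
    exact congrArg Subtype.val ((B'.equivMapOfInjective S.subtype S.subtype_injective).apply_symm_apply
      ((MulEquiv.subgroupCongr h) (BL.equivMapOfInjective L.subtype L.subtype_injective x)))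
  haveI : (T₀.map e.toMonoidHom).Characteristic := characteristic_map_equiv e T₀
  refine ⟨(T₀.map e.toMonoidHom).map B'.subtype, inferInstance, ?_⟩
  simp only [Subgroup.map_map]
  congr 1
  exact MonoidHom.ext fun x => he x

end Char

variable {G : Type u} [Group G] [Finite G] {p : ℕ} [Fact p.Prime]

/-- The rank-one subgroups over `B(S)` generating `G` with `S` have quadratic `p`-elements. -/
def QuadLocal (p : ℕ) [Fact p.Prime] (S : Sylow p G) : Prop :=
  ∀ (L : Subgroup G) (BL : Sylow p ↥L) (M' : Subgroup ↥L), PushingUp.Hyp p BL M' →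
    (BL : Subgroup ↥L).map L.subtype = baumannSubgroupOf p (S : Subgroup G) → L ⊔ (S : Subgroup G) = ⊤ →
    ∀ U W : Subgroup ↥L, IsChiefFactor U W → U ≤ pCore p ↥L → ∀ u ∈ (BL : Subgroup ↥L), ∀ x ∈ U,
      ⁅⁅x, u⁆, u⁆ ∈ W

variable {S : Sylow p G} {M : Subgroup G}
  {K : Subgroup G} {r : ℕ} {F : Fin r → Type} [∀ i, Field (F i)] [∀ i, Fintype (F i)]
  (h : Ctx p S M) (d : Data p S K F) (hp : p ≠ 2)

local notation "V" => zQ p G
local notation "C" => centralizer (zQ p G : Set G)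
local notation "JG" => thompsonSubgroup p G
local notation "Q" => pCore p G

include h d

/-- `S ∩ K ≤ (S ∩ N) O_p(G)`. -/
theorem inf_K_le : (S : Subgroup G) ⊓ K ≤ ((S : Subgroup G) ⊓ bN p S K) ⊔ Q := by
  haveI := bN_normal h d
  haveI := d.K_normal
  haveI : (centralizer (zQ p G : Set G)).Normal := Subgroup.normal_centralizer
  obtain ⟨P, hP⟩ := Offender.exists_sylow_eq_inf S (bN p S K)
  set π := QuotientGroup.mk' C
  have hπK : ∀ n : ↥(bN p S K), π n ∈ K.map π := fun n => mem_map_of_mem π n.2.1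
  let f : ↥(bN p S K) →* ↥(K.map π) :=
    { toFun := fun n => ⟨π n, hπK n⟩
      map_one' := Subtype.ext (map_one π)
      map_mul' := fun a b => Subtype.ext (map_mul π (a : G) b) }
  have hf : Function.Surjective f := by
    rintro ⟨_, k, hk, rfl⟩
    obtain ⟨j, hj, c, hc, rfl⟩ := Subgroup.mem_sup_of_normal_right.mp (d.eK.ge hk)
    refine ⟨⟨j, thompson_le_bN h d hj⟩, Subtype.ext ?_⟩
    show π j = π (j * c)
    rw [map_mul, show π c = 1 from (QuotientGroup.eq_one_iff c).mpr hc, mul_one]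
  set T := (((S : Subgroup G) ⊓ K).map π).subgroupOf (K.map π)
  have hT : IsPGroup p ↥T :=
    ((S.2.to_le inf_le_left).map π).comap_of_injective _ (K.map π).subtype_injective
  have hle : ((P.mapSurjective hf : Sylow p ↥(K.map π)) : Subgroup ↥(K.map π)) ≤ T := by
    rintro _ ⟨x, hx, rfl⟩
    have hx' := hP.le (mem_map_of_mem (bN p S K).subtype hx)
    exact mem_subgroupOf.mpr ⟨x, ⟨hx'.1, x.2.1⟩, rfl⟩
  have heq := (P.mapSurjective hf).3 hT hle
  intro t ht
  obtain ⟨x, hx, hxt⟩ : (⟨π t, mem_map_of_mem π ht.2⟩ : ↥(K.map π)) ∈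
      ((P.mapSurjective hf : Sylow p ↥(K.map π)) : Subgroup ↥(K.map π)) := by
    rw [← heq]; exact mem_subgroupOf.mpr (mem_map_of_mem π ht)
  have hx' := hP.le (mem_map_of_mem (bN p S K).subtype hx)
  have hq : ((x : G))⁻¹ * t ∈ Q := by
    refine h.inf_centralizer.le (mem_inf.mpr ⟨mul_mem (inv_mem hx'.1) ht.1, (QuotientGroup.eq_one_iff _).mp ?_⟩)
    show π ((x : G)⁻¹ * t) = 1
    rw [map_mul, map_inv, inv_mul_eq_one]
    exact congrArg Subtype.val hxt
  have h1 : (x : G) * ((x : G)⁻¹ * t) ∈ ((S : Subgroup G) ⊓ bN p S K) ⊔ Q :=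
    mul_mem (mem_sup_left hx') (mem_sup_right hq)
  rwa [mul_inv_cancel_left] at h1

/-- `C_N(N ∩ O_p(G)) ≤ O_p(G)`. -/
theorem inf_centralizer_inf_le :
    bN p S K ⊓ centralizer ((bN p S K ⊓ Q : Subgroup G) : Set G) ≤ Q := by
  haveI := bN_normal h d
  haveI : (pCore p G).Normal := PCore.pCore_normal
  set D := bN p S K ⊓ centralizer ((bN p S K ⊓ Q : Subgroup G) : Set G)
  haveI : D.Normal := inferInstance
  refine PCore.le_pCore (PushingUp.isPGroup_of_coprime fun y hy hcop => ?_)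
  have hc : y ∈ centralizer (Q : Set G) := by
    intro q hq
    set z := y * q * y⁻¹ * q⁻¹ with hz
    have hzN : z ∈ bN p S K ⊓ Q := by
      refine mem_inf.mpr ⟨?_, mul_mem ((PCore.pCore_normal (p := p) (G := G)).conj_mem q hq y) (inv_mem hq)⟩
      rw [hz, show y * q * y⁻¹ * q⁻¹ = y * (q * y⁻¹ * q⁻¹) by group]
      exact mul_mem hy.1 ((bN_normal h d).conj_mem _ (inv_mem hy.1) q)
    obtain ⟨k, hk⟩ := (PCore.isPGroup_pCore (p := p) (G := G)) ⟨z, hzN.2⟩
    have hk' : z ^ p ^ k = 1 := congrArg Subtype.val hk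
    have h1 : y * q * y⁻¹ = z * q := by simp only [z]; group
    exact (PushingUp.commute_of_translate' hcop hk' h1 (hy.2 z hzN).symm).symm
  obtain ⟨k, hk⟩ := (PCore.isPGroup_pCore (p := p) (G := G)) ⟨y, h.cent hc⟩
  have h1 : orderOf y ∣ 1 := by
    rw [← Nat.Coprime.pow_right k hcop]
    exact Nat.dvd_gcd dvd_rfl (orderOf_dvd_of_pow_eq_one (congrArg Subtype.val hk))
  rwa [Nat.dvd_one, orderOf_eq_one_iff] at h1

include hp

/-- The subgroup `L` of the block `i` and its quadratic element. -/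
theorem exists_local (hquad : QuadLocal p S) (i : Fin r) : ∃ (L : Subgroup G) (u : G) (hu : u ∈ L),
    u ∈ (S : Subgroup G) ∧ u ∉ Q ∧ u ∈ d.E i ∧ L ≤ bN p S K ∧ d.E i ≤ L ⊔ C ∧ bN p S K ⊓ Q ≤ L ∧
    ∀ U W : Subgroup ↥L, IsChiefFactor U W → U ≤ pCore p ↥L → ∀ x ∈ U,
      ⁅⁅x, (⟨u, hu⟩ : ↥L)⁆, (⟨u, hu⟩ : ↥L)⁆ ∈ W := by
  classical
  haveI := bN_normal h d
  haveI := d.K_normal
  haveI : (pCore p G).Normal := PCore.pCore_normal
  haveI : (centralizer (zQ p G : Set G)).Normal := Subgroup.normal_centralizer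
  haveI := d.charP i
  set N := bN p S K
  set B := (S : Subgroup G) ⊓ N with hB
  set T := (S : Subgroup G) ⊓ K
  have hNK : N ≤ K := inf_le_left
  have hQC : Q ≤ C := pCore_le_centralizer_zQ
  have hKNC : K ≤ N ⊔ C := d.eK.ge.trans (sup_le_sup_right (thompson_le_bN h d) _)
  obtain ⟨L, hL⟩ := (Set.toFinite
    {Z : Subgroup G | B ≤ Z ∧ Z ≤ N ⊓ (d.E i ⊔ T) ∧ d.E i ≤ Z ⊔ C}).exists_minimal
    ⟨N ⊓ (d.E i ⊔ T), le_inf inf_le_right ((inf_le_inf_left _ hNK).trans le_sup_right), le_rfl,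
      fun e he => by
        obtain ⟨n, hn, c, hc, rfl⟩ := Subgroup.mem_sup_of_normal_right.mp (hKNC (d.E_le i he))
        have := mul_mem he (inv_mem (d.cent_le i hc))
        rw [mul_inv_cancel_right] at this
        exact mul_mem_sup (mem_inf.mpr ⟨hn, mem_sup_left this⟩) hc⟩
  obtain ⟨hBL, hLle, hEL⟩ := hL.prop
  have hLN : L ≤ N := hLle.trans inf_le_left
  have hLK : L ≤ K := hLN.trans hNK
  have hNQ : N ⊓ Q ≤ L := (le_inf (inf_le_right.trans (PCore.pCore_le_sylow S)) inf_le_left).trans hBL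
  have hTB : T ≤ B ⊔ Q := inf_K_le h d
  set θ : ↥L →* SL(2, F i) := (d.ρ i).comp (Subgroup.inclusion hLK) with hθ
  have hρC : ∀ {j : Fin r} {k : ↥K}, (k : G) ∈ C → d.ρ j k = 1 := fun hk => d.rho_of_centralizes hk
  have hθs : Function.Surjective θ := by
    intro A
    obtain ⟨e, he, hea⟩ := d.rho_surj i A
    obtain ⟨l, hl, c, hc, hlc⟩ := Subgroup.mem_sup_of_normal_right.mp (hEL he)
    refine ⟨⟨l, hl⟩, ?_⟩
    have e' : e = (⟨l, hLK hl⟩ : ↥K) * ⟨c, d.centralizer_le hc⟩ := Subtype.ext hlc.symm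
    rw [← hea, e', map_mul, hρC (k := ⟨c, d.centralizer_le hc⟩) hc, mul_one]
    rfl
  -- unipotent elements come from `B`
  have hlift : ∀ a : F i, ∃ b : ↥L, (b : G) ∈ B ∧ (b : G) ∈ d.E i ∧ θ b = NaturalSL2.uni a := by
    intro a
    obtain ⟨k, hkS, hkE, hka⟩ := d.rho_S_surj i a
    obtain ⟨b, hb, c, hc, hbc⟩ := Subgroup.mem_sup_of_normal_right.mp (hTB ⟨hkS, k.2⟩)
    have hcC : c ∈ C := hQC hc
    have hbE : b ∈ d.E i := by
      rw [show b = (k : G) * c⁻¹ by rw [← hbc, mul_inv_cancel_right]]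
      exact mul_mem hkE (inv_mem (d.cent_le i hcC))
    refine ⟨⟨b, hBL hb⟩, hb, hbE, ?_⟩
    have e' : k = (⟨b, hLK (hBL hb)⟩ : ↥K) * ⟨c, d.centralizer_le hcC⟩ := Subtype.ext hbc.symm
    rw [← hka, e', map_mul, hρC (k := ⟨c, d.centralizer_le hcC⟩) hcC, mul_one]
    rfl
  -- a Sylow subgroup of `L`
  have hBp : IsPGroup p ↥(B.subgroupOf L) :=
    (S.2.to_le inf_le_left).comap_of_injective _ L.subtype_injective
  have hBi : ¬ p ∣ (B.subgroupOf L).index := by
    intro hd'
    obtain ⟨P, hP⟩ := Offender.exists_sylow_eq_inf S N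
    have h1 : (B.relIndex L) ∣ B.relIndex N := Dvd.intro _ (relIndex_mul_relIndex B L N hBL hLN)
    refine ConjFun.not_dvd_relIndex_of_sylow P ?_
    rw [hP]
    exact hd'.trans h1
  set BL : Sylow p ↥L := hBp.toSylow hBi with hBLdef
  have hBLc : (BL : Subgroup ↥L) = B.subgroupOf L := IsPGroup.toSylow_coe hBp hBi
  have hBLm : (BL : Subgroup ↥L).map L.subtype = B := by rw [hBLc, map_subgroupOf_eq_of_le hBL]
  have hBθ : (BL : Subgroup ↥L) ≤ (NaturalSL2.upperUni (F i)).comap θ := fun x hx =>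
    d.rho_S i (Subgroup.inclusion hLK x) ((mem_subgroupOf (K := L) (H := B)).mp (hBLc.le hx)).1
  have huni : ∀ X : Subgroup ↥L, (BL : Subgroup ↥L) ≤ X → NaturalSL2.upperUni (F i) ≤ X.map θ := by
    intro X hX A hA
    obtain ⟨b, hb, -, hbe⟩ := hlift ((A : Matrix (Fin 2) (Fin 2) (F i)) 0 1)
    refine ⟨b, hX (hBLc ▸ mem_subgroupOf.mpr hb), hbe.trans ?_⟩
    exact Subtype.ext (NaturalSL2.apply_of_mem_upperUni hA).symm
  -- by minimality proper subgroups over `B` have proper image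
  have hproper : ∀ X : Subgroup ↥L, (BL : Subgroup ↥L) ≤ X → X.map θ = ⊤ → X = ⊤ := by
    intro X hX hXθ
    set X₀ := X.map L.subtype with hX₀
    have hX₀L : X₀ ≤ L := map_subtype_le X
    have hBX : B ≤ X₀ := hBLm ▸ Subgroup.map_mono hX
    have hEX : d.E i ≤ X₀ ⊔ C := by
      intro e he
      let e' : ↥K := ⟨e, d.E_le i he⟩
      obtain ⟨x, hx, hxe⟩ : d.ρ i e' ∈ X.map θ := hXθ ▸ mem_top _
      set k : ↥K := (Subgroup.inclusion hLK x)⁻¹ * e' with hk
      have hki : d.ρ i k = 1 := by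
        rw [hk, map_mul, map_inv, inv_mul_eq_one]
        exact hxe
      have hkj : ∀ j, ∃ a : F j, d.ρ j k = NaturalSL2.uni a := by
        intro j
        rcases eq_or_ne j i with rfl | hj
        · exact ⟨0, hki.trans (Subtype.ext (by simp [NaturalSL2.uni, Matrix.one_fin_two]))⟩
        have h1 : d.E i ⊔ T ≤ ((NaturalSL2.upperUni (F j)).comap (d.ρ j)).map K.subtype := sup_le
          (fun y hy => ⟨⟨y, d.E_le i hy⟩, by
            show d.ρ j _ ∈ NaturalSL2.upperUni (F j)
            rw [d.rho_other i j hj _ hy]; exact one_mem _, rfl⟩)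
          fun y hy => ⟨⟨y, hy.2⟩, d.rho_S j _ hy.1, rfl⟩
        obtain ⟨y, hy, hyx⟩ := h1 (hLle x.2).2
        have hy' : y = Subgroup.inclusion hLK x := Subtype.ext hyx
        have h2 : d.ρ j k ∈ NaturalSL2.upperUni (F j) := by
          rw [hk, map_mul, map_inv, d.rho_other i j hj e' he, mul_one, ← hy']
          exact inv_mem hy
        exact ⟨_, Subtype.ext (NaturalSL2.apply_of_mem_upperUni h2)⟩
      choose a ha using hkj
      obtain ⟨s, hsS, hs⟩ := d.exists_uni a
      have hks : (k : G)⁻¹ * s ∈ C := d.inv_mul_mem_centralizer fun j => (ha j).trans (hs j).symm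
      have hs' : (s : G) ∈ X₀ ⊔ C := (hTB.trans (sup_le_sup hBX hQC)) ⟨hsS, s.2⟩
      have hk' : (k : G) ∈ X₀ ⊔ C := by
        have := mul_mem hs' (inv_mem (mem_sup_right hks))
        rwa [_root_.mul_inv_rev, inv_inv, mul_inv_cancel_left] at this
      have := mul_mem (mem_sup_left (mem_map_of_mem L.subtype hx) : (x : G) ∈ X₀ ⊔ C) hk'
      simpa [hk, e'] using this
    have heq : X₀ = L := le_antisymm hX₀L (hL.le_of_le ⟨hBX, hX₀L.trans hLle, hEX⟩ hX₀L)
    refine map_injective L.subtype_injective ?_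
    rw [← hX₀, heq, ← MonoidHom.range_eq_map, range_subtype]
  set ML : Subgroup ↥L := (PushingUp.borelSL (F i)).comap θ with hML
  have hMLne : ML ≠ ⊤ := by
    intro hc
    obtain ⟨x, hx⟩ := hθs (PushingUp.low 1)
    have h1 : θ x ∈ PushingUp.borelSL (F i) := hc.ge (mem_top x)
    rw [hx] at h1
    exact one_ne_zero (α := F i) h1
  have hBM : (BL : Subgroup ↥L) ≤ ML := hBθ.trans (comap_mono fun A hA => hA.2)
  have hMLu : ∀ X : Subgroup ↥L, (BL : Subgroup ↥L) ≤ X → X ≠ ⊤ → X ≤ ML := by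
    intro X hX hne x hx
    by_contra hc
    exact hne (hproper X hX (PushingUp.eq_top_of_upperUni_le (huni X hX) (mem_map_of_mem θ hx) hc))
  have hex : ∃! M' : Subgroup ↥L, IsCoatom M' ∧ (BL : Subgroup ↥L) ≤ M' := by
    refine ⟨ML, ⟨⟨hMLne, fun X hX => ?_⟩, hBM⟩, fun X hX => ?_⟩
    · by_contra hc
      exact hX.not_ge (hMLu X (hBM.trans hX.le) hc)
    · rcases hX.1.le_iff.mp (hMLu X hX.2 hX.1.1) with e | e
      · exact absurd e hMLne
      · exact e.symm
  have hcentL : centralizer (pCore p ↥L : Set ↥L) ≤ pCore p ↥L := by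
    haveI : ((N ⊓ Q).subgroupOf L).Normal := inferInstance
    have hNQp : (N ⊓ Q).subgroupOf L ≤ pCore p ↥L := PCore.le_pCore
      ((PCore.isPGroup_pCore.to_le inf_le_right).comap_of_injective _ L.subtype_injective)
    intro x hx
    have h1 : (x : G) ∈ N ⊓ centralizer ((N ⊓ Q : Subgroup G) : Set G) :=
      mem_inf.mpr ⟨hLN x.2, fun z hz => congrArg Subtype.val
        (hx ⟨z, hNQ hz⟩ (hNQp (mem_subgroupOf.mpr hz)))⟩
    exact hNQp (mem_subgroupOf.mpr ⟨h1.1, inf_centralizer_inf_le h d h1⟩)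
  obtain ⟨n, hn⟩ := d.card_F i
  set θP := (PushingUp.proj (F i)).comp θ
  obtain ⟨M', hyp⟩ := PushingUp.exists_hyp BL hcentL hex θP.ker hn
    ⟨QuotientGroup.quotientKerEquivOfSurjective θP ((PushingUp.proj_surjective (F i)).comp hθs)⟩
  -- no characteristic subgroup
  have hLS : L ⊔ (S : Subgroup G) = ⊤ := by
    refine h.sup_eq_top fun hc => h.ne_top (top_le_iff.mp (d.sup_top.ge.trans
      (sup_le (sup_le (d.thompson_le.trans ?_) h.SM) h.centralizer_le)))
    rw [← d.iSup_E]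
    refine iSup_le fun j => ?_
    obtain ⟨s, hs, hse⟩ := d.conj_E i j
    rw [← hse]
    rintro _ ⟨x, hx, rfl⟩
    have hxM : x ∈ M := sup_le hc h.centralizer_le (hEL hx)
    exact mul_mem (mul_mem (h.SM hs) hxM) (inv_mem (h.SM hs))
  obtain ⟨u, hu, huE, hu1⟩ := hlift 1
  refine ⟨L, u, u.2, hu.1, fun huQ => ?_, huE, hLN, hEL, hNQ, fun U W hch hU x hx => ?_⟩
  · have h1 : θ u = 1 := hρC (k := Subgroup.inclusion hLK u) (hQC huQ)
    have h2 := congrArg (fun A : SL(2, F i) => (A : Matrix (Fin 2) (Fin 2) (F i)) 0 1) (hu1.symm.trans h1)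
    simp [NaturalSL2.uni] at h2
  · refine hquad L BL M' hyp ?_ hLS U W hch hU u ?_ x hx
    · rw [hBLm, baumann_eq_inf h d hp]
    · exact hBLc.ge (mem_subgroupOf.mpr hu)

omit h d hp in
/-- Over `B(S)` there is quadratic action when no characteristic subgroup of `S` is normal. -/
theorem quadLocal_of_hd (hd : ∀ T : Subgroup ↥(S : Subgroup G), T ≠ ⊥ → T.Characteristic →
    ¬ (T.map (S : Subgroup G).subtype).Normal) : QuadLocal p S := by
  intro L BL M' hyp hBLm hLS U W hch hU u hu x hx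
  have hdL : ∀ T₀ : Subgroup ↥(BL : Subgroup ↥L), T₀ ≠ ⊥ → T₀.Characteristic →
      ¬ (T₀.map (BL : Subgroup ↥L).subtype).Normal := by
    intro T₀ hT₀ hT₀c hn'
    haveI := hT₀c
    haveI : (baumannSubgroupOf p (⊤ : Subgroup ↥(S : Subgroup G))).Characteristic :=
      baumann_top_characteristic
    obtain ⟨T₁, hT₁, hT₁m⟩ := exists_char_of_eq (BL := (BL : Subgroup ↥L))
      (B' := baumannSubgroupOf p (⊤ : Subgroup ↥(S : Subgroup G)))
      (by rw [hBLm, map_baumann_subtype]) T₀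
    refine hd T₁ (fun e => hT₀ ?_) hT₁ (normalizer_eq_top_iff.mp (top_le_iff.mp ?_))
    · rw [e, Subgroup.map_bot, eq_comm, Subgroup.map_eq_bot_iff_of_injective _ L.subtype_injective,
        Subgroup.map_eq_bot_iff_of_injective _ (Subgroup.subtype_injective _)] at hT₁m
      exact hT₁m
    · rw [← hLS]
      refine sup_le ?_ ?_
      · rw [hT₁m]
        intro l hl
        have := le_normalizer_map L.subtype (mem_map_of_mem L.subtype
          ((normalizer_eq_top_iff.mpr hn').ge (mem_top (⟨l, hl⟩ : ↥L))))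
        exact this
      · intro s hs
        exact le_normalizer_map (S : Subgroup G).subtype (mem_map_of_mem _
          ((normalizer_eq_top_iff.mpr (inferInstance : T₁.Normal)).ge (mem_top (⟨s, hs⟩ : ↥(S : Subgroup G)))))
  obtain ⟨F', _, _, hcard, -, -⟩ := PushingUp.exists_layer_V hyp hdL
  obtain ⟨m, hm⟩ : ∃ m, Fintype.card F' = p ^ m := by
    obtain ⟨k, hk⟩ := IsPGroup.iff_card.mp BL.2
    exact (Nat.dvd_prime_pow Fact.out).mp (hk ▸ hcard ▸ Dvd.intro _ rfl) |>.imp fun _ ⟨_, e⟩ => e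
  haveI : CharP F' p := charP_of_card_eq_prime_pow hm
  haveI := hch.2.2.1
  by_cases hnc : ⁅U, (⊤ : Subgroup ↥L)⁆ ≤ W
  · have h1 : ⁅x, u⁆ ∈ W := hnc (commutator_mem_commutator hx (mem_top _))
    exact Subgroup.commutator_le_left W ⊤ (commutator_mem_commutator h1 (mem_top _))
  · obtain ⟨k, hk⟩ := BL.2 ⟨u, hu⟩
    exact quadratic_of_natural (PushingUp.natural_chief hyp hdL hcard hU hch hnc)
      (u := u) (k := k) (by simpa using congrArg Subtype.val hk) hx

end Cfsg.Agent.GlaubermanTransfer
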