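import Cfsg.Agent.Lib.GlaubermanTransfer.Engel
import Cfsg.Agent.Lib.GlaubermanTransfer.Construct
import Cfsg.Agent.Lib.PFocal.Family
import Cfsg.Agent.Lib.ConjFun.Sections
import Cfsg.Agent.Lib.PMinFF.GlueLocal

/-!
# Transfer is controlled by the characteristic subgroups, `p` odd

* `HasData p`: a `p`-minimal group of characteristic `p` with `C**(G, S) ≠ G` has block data
* `hasData_of_hasDecomp`: from the linear theorem
* `transfer_eq`: `S ∩ G'` is generated by the `S ∩ N(K)'`, `K` characteristic in `S`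
-/

set_option autoImplicit false

namespace Cfsg.Agent.GlaubermanTransfer

open Subgroup
open scoped commutatorElement

universe u

/-- The blocks exist. -/
def HasData (p : ℕ) [Fact p.Prime] : Prop :=
  ∀ (X : Type u) [Group X] [Finite X], IsPMinimal p X →
    centralizer (pCore p X : Set X) ≤ pCore p X → ∀ S : Sylow p X, cStarStarOf p (S : Subgroup X) ≠ ⊤ →
      ∃ (r : ℕ) (K : Subgroup X) (F : Fin r → Type) (_ : ∀ i, Field (F i)) (_ : ∀ i, Fintype (F i)),
        Nonempty (Data p S K F)

variable {p : ℕ} [Fact p.Prime]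

theorem hasData_of_hasDecomp (hp : p ≠ 2) (h : PMinFF.HasDecomp.{u} p) : HasData.{u} p := by
  intro X _ _ hmin hcent S hne
  obtain ⟨r, E, h1, h2, h3, h4, -, h6, h7, h8, h9⟩ := PMinFF.local_of_hasDecomp h hmin hcent S hne
  refine ⟨r, exists_data hp S E h1 h2 h3 h4 h6 h7 h8 fun i => ?_⟩
  obtain ⟨n, -, ⟨F, hF, hFt, hc, hiso, hact⟩ | ⟨h2, -⟩⟩ := h9 i
  · exact ⟨F, hF, hFt, n, hc, hiso, hact⟩
  · exact absurd h2 hp

variable (hdata : HasData.{u} p) (hp : p ≠ 2)
include hdata hp

/-- All characteristic functors together control transfer. -/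
theorem controls {G : Type u} [Group G] [Finite G] : ConjFun.Controls p (PFocal.charFamily.{u} p) G := by
  refine ConjFun.controls_of_sections (fun W hW => hW) ?_ G (ConjFun.involves_refl G)
  intro K R _ IH hcent S
  by_contra hfail
  obtain ⟨M, U, V, f⟩ := PFocal.exists_failure S hcent IH hfail
  have hctx : Ctx p S M := Ctx.of_hd f.cent f.ne_top f.SM f.max
    (fun hn => f.ne_top (top_le_iff.mp ((normalizer_eq_top_iff.mpr hn).ge.trans f.norm))) f.hd
  obtain ⟨r, K', F, _, _, ⟨d⟩⟩ := hdata _ hctx.isPMinimal hcent S hctx.cStarStar_ne_top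
  obtain ⟨u, huS, huQ, hu⟩ := exists_engel hctx d hp (quadLocal_of_hd f.hd)
  exact f.no_engel u huS huQ (hu U V f.chief f.le_pCore
    (f.cent_factor _ (Subgroup.normal_centralizer) hctx.centralizer_le))

/-- `S ∩ G'` is generated by the `S ∩ N(K)'`. -/
theorem transfer_eq {G : Type u} [Group G] [Finite G] (S : Sylow p G) (hS : (S : Subgroup G) ≠ ⊥) :
    (S : Subgroup G) ⊓ commutator G =
      ⨆ K : {K : Subgroup ↥(S : Subgroup G) // K ≠ ⊥ ∧ K.Characteristic}, (S : Subgroup G) ⊓
        ⁅normalizer ((((K : Subgroup ↥(S : Subgroup G))).map (S : Subgroup G).subtype : Subgroup G) : Set G),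
          normalizer ((((K : Subgroup ↥(S : Subgroup G))).map (S : Subgroup G).subtype : Subgroup G) : Set G)⁆ := by
  refine le_antisymm ((controls hdata hp (G := G) S).trans ?_)
    (iSup_le fun K => inf_le_inf_left _ (Subgroup.commutator_mono le_top le_top))
  rw [ConjFun.transferGen_inducedFamily]
  refine iSup₂_le fun W hW => ?_
  haveI : Nontrivial ↥(S : Subgroup G) := (nontrivial_iff_ne_bot _).mpr hS
  have hchar : (W ↥(S : Subgroup G)).Characteristic :=
    characteristic_iff_map_eq.mpr fun φ => hW.2 ↥(S : Subgroup G) ↥(S : Subgroup G) S.2 φ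
  exact le_iSup (fun K : {K : Subgroup ↥(S : Subgroup G) // K ≠ ⊥ ∧ K.Characteristic} => (S : Subgroup G) ⊓
      ⁅normalizer ((((K : Subgroup ↥(S : Subgroup G))).map (S : Subgroup G).subtype : Subgroup G) : Set G),
        normalizer ((((K : Subgroup ↥(S : Subgroup G))).map (S : Subgroup G).subtype : Subgroup G) : Set G)⁆)
    ⟨W ↥(S : Subgroup G), hW.1 ↥(S : Subgroup G) S.2 inferInstance, hchar⟩

end Cfsg.Agent.GlaubermanTransfer
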